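import Cfsg.Agent.MulX.Tab

/-! Relators (generated data, owner: helper7). -/

set_option autoImplicit false

namespace Cfsg.Agent.MLin.Co3

/-- exact relators -/
def R1 : List (ℕ × List ℕ) := [(1, [1, 1, 3, 6, 3, 2, 4, 5, 4]), (3, [3, 3, 1, 6, 1, 4, 2, 5, 2]), (5, [5, 5, 1, 4, 1, 6, 2, 3, 2]), (7, [7, 7, 5, 7, 6, 8, 5, 8, 6, 7, 5, 8, 6]), (9, [9, 4, 10, 4, 9, 4]), (11, [4, 11, 4, 12, 4, 11]), (13, [13, 13, 7, 5, 8, 6, 7, 14, 8, 5, 7, 6, 8])]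

/-- central relators -/
def R2 : List (List ℕ) := [[1, 1, 1], [5, 5, 5], [7, 7, 7], [1, 3, 1, 3], [1, 5, 1, 5], [3, 5, 3, 5], [7, 1, 8, 2], [7, 3, 8, 4], [5, 7, 5, 7, 5, 7, 5, 7, 5, 7], [7, 6, 7, 6, 7, 6, 7, 6, 7, 6], [9, 9], [9, 4, 8, 10, 7, 3], [9, 1, 6, 1, 4, 10, 3, 2, 5, 2], [11, 9, 11, 9], [11, 4, 1, 6, 1, 11, 2, 5, 2, 9, 3], [11, 4, 1, 9, 6, 8, 3, 11, 6, 9, 7, 5, 9], [8, 11, 7, 11], [2, 3, 11, 2, 3, 11, 2, 3, 11], [2, 11, 4, 2, 11, 1, 3, 11, 4], [13, 13, 13], [2, 14, 1, 13], [4, 14, 3, 13], [6, 14, 5, 13], [14, 8, 14, 8], [14, 9, 14, 9, 14, 9], [1, 4, 1, 14, 8, 2, 3, 2, 7, 13], [1, 4, 1, 5, 9, 2, 3, 5, 1, 9, 6, 2, 3, 2, 5, 10, 2, 6, 4, 1, 10, 6], [14, 8, 5, 9,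 2, 3, 5, 1, 9, 6, 7, 13, 5, 10, 2, 6, 4, 1, 10, 6, 2, 3, 2, 4, 2], [1, 4, 5, 13, 8, 6, 3, 2, 4, 5, 7, 14, 6, 3], [1, 8, 2, 7], [4, 5, 13, 8, 6, 3, 8, 4, 5, 7, 14, 6, 3, 7, 3, 6, 7, 5, 8, 4], [4, 5, 8, 13, 8, 6, 7, 3, 9, 5, 9, 4, 8, 5, 7, 14, 7, 6, 3, 10, 6, 10], [4, 5, 8, 13, 8, 6, 7, 3, 1, 9, 6, 9, 1, 4, 8, 5, 7, 14, 7, 6, 3, 2, 10, 5, 10, 2], [9, 5, 9, 1, 9, 6, 9, 1, 10, 6, 10, 2, 10, 5, 10, 2, 10, 8, 1, 6], [13, 3, 14, 4], [13, 3, 8, 13, 11, 14, 7, 14, 8, 13, 12, 14, 7, 4], [3, 3, 8, 13, 11, 14, 7, 4, 8, 13, 12, 14, 7, 4, 4, 6, 8, 5, 7, 6, 11, 14, 7, 11], [4, 5, 8, 13, 8, 5, 8, 10, 4, 2, 4, 5, 8, 13, 8, 5, 8, 10, 4, 2, 10, 8, 1, 6], [1, 6, 9, 8, 5, 2, 7, 9, 5, 2,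 7, 9, 5, 2, 7, 9, 4, 8, 5, 7, 14, 7, 6, 3, 1, 3, 9, 7, 6, 7, 14, 7, 6, 3]]

/-- inverse letters -/
def iv : List (ℕ × ℕ) := [(1, 2), (3, 4), (5, 6), (7, 8), (9, 10), (11, 12), (13, 14)]

/-- relations of the covering group -/
def RL : List (List ℕ × ℕ) := [([1, 1, 3, 6, 3, 2, 4, 5, 4], 1), ([3, 3, 1, 6, 1, 4, 2, 5, 2], 1), ([5, 5, 1, 4, 1, 6, 2, 3, 2], 1), ([7, 7, 5, 7, 6, 8, 5, 8, 6, 7, 5, 8, 6], 1), ([9, 4, 10, 4, 9, 4], 1), ([4, 11, 4, 12, 4, 11], 1), ([13, 13, 7, 5, 8, 6, 7, 14, 8, 5, 7, 6, 8], 1), ([1, 1, 1, 3, 2, 2, 2, 4], 1), ([1, 1, 1, 5, 2, 2, 2, 6], 1), ([1, 1, 1, 7, 2, 2, 2, 8], 1), ([1, 1, 1, 9, 2, 2, 2, 10], 1), ([1, 1, 1, 11, 2, 2, 2, 12], 1), ([1, 1,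 1, 13, 2, 2, 2, 14], 1), ([5, 5, 5, 1, 6, 6, 6, 2], 1), ([5, 5, 5, 3, 6, 6, 6, 4], 1), ([5, 5, 5, 7, 6, 6, 6, 8], 1), ([5, 5, 5, 9, 6, 6, 6, 10], 1), ([5, 5, 5, 11, 6, 6, 6, 12], 1), ([5, 5, 5, 13, 6, 6, 6, 14], 1), ([7, 7, 7, 1, 8, 8, 8, 2], 1), ([7, 7, 7, 3, 8, 8, 8, 4], 1), ([7, 7, 7, 5, 8, 8, 8, 6], 1), ([7, 7, 7, 9, 8, 8, 8, 10], 1), ([7, 7, 7, 11, 8, 8, 8, 12], 1), ([7, 7, 7, 13, 8, 8, 8, 14], 1), ([1, 3, 1, 3, 1, 4, 2, 4, 2, 2], 1), ([1, 3, 1, 3, 2, 4, 2, 4], 1), ([1, 3, 1, 3, 5, 4, 2, 4, 2, 6], 1), ([1, 3, 1, 3, 7, 4, 2, 4, 2, 8], 1), ([1, 3, 1, 3, 9, 4, 2, 4, 2, 10], 1), ([1, 3, 1, 3, 11, 4, 2, 4, 2, 12], 1), ([1, 3, 1, 3, 13, 4, 2, 4, 2, 14], 1), ([1, 5, 1,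 5, 1, 6, 2, 6, 2, 2], 1), ([1, 5, 1, 5, 3, 6, 2, 6, 2, 4], 1), ([1, 5, 1, 5, 2, 6, 2, 6], 1), ([1, 5, 1, 5, 7, 6, 2, 6, 2, 8], 1), ([1, 5, 1, 5, 9, 6, 2, 6, 2, 10], 1), ([1, 5, 1, 5, 11, 6, 2, 6, 2, 12], 1), ([1, 5, 1, 5, 13, 6, 2, 6, 2, 14], 1), ([3, 5, 3, 5, 1, 6, 4, 6, 4, 2], 1), ([3, 5, 3, 5, 3, 6, 4, 6, 4, 4], 1), ([3, 5, 3, 5, 4, 6, 4, 6], 1), ([3, 5, 3, 5, 7, 6, 4, 6, 4, 8], 1), ([3, 5, 3, 5, 9, 6, 4, 6, 4, 10], 1), ([3, 5, 3, 5, 11, 6, 4, 6, 4, 12], 1), ([3, 5, 3, 5, 13, 6, 4, 6, 4, 14], 1), ([7, 1, 8, 1, 7, 2, 8, 2], 1), ([7, 1, 8, 2, 3, 1, 7, 2, 8, 4], 1), ([7, 1, 8, 2, 5, 1, 7, 2, 8, 6], 1), ([7, 1, 8, 2, 7, 1, 7, 2, 8, 8], 1), ([7, 1, 8, 2, 9, 1, 7, 2, 8,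 10], 1), ([7, 1, 8, 2, 11, 1, 7, 2, 8, 12], 1), ([7, 1, 8, 2, 13, 1, 7, 2, 8, 14], 1), ([7, 3, 8, 4, 1, 3, 7, 4, 8, 2], 1), ([7, 3, 8, 3, 7, 4, 8, 4], 1), ([7, 3, 8, 4, 5, 3, 7, 4, 8, 6], 1), ([7, 3, 8, 4, 7, 3, 7, 4, 8, 8], 1), ([7, 3, 8, 4, 9, 3, 7, 4, 8, 10], 1), ([7, 3, 8, 4, 11, 3, 7, 4, 8, 12], 1), ([7, 3, 8, 4, 13, 3, 7, 4, 8, 14], 1), ([5, 7, 5, 7, 5, 7, 5, 7, 5, 7, 1, 8, 6, 8, 6, 8, 6, 8, 6, 8, 6, 2], 1), ([5, 7, 5, 7, 5, 7, 5, 7, 5, 7, 3, 8, 6, 8, 6, 8, 6, 8, 6, 8, 6, 4], 1), ([5, 7, 5, 7, 5, 7, 5, 7, 5, 7, 5, 8, 6, 8, 6, 8, 6, 8, 6, 8, 6, 6], 1), ([5, 7, 5, 7, 5, 7, 5, 7, 5, 7, 6, 8, 6, 8, 6, 8, 6, 8, 6, 8], 1), ([5, 7, 5, 7, 5, 7, 5, 7, 5, 7, 9, 8, 6, 8,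 6, 8, 6, 8, 6, 8, 6, 10], 1), ([5, 7, 5, 7, 5, 7, 5, 7, 5, 7, 11, 8, 6, 8, 6, 8, 6, 8, 6, 8, 6, 12], 1), ([5, 7, 5, 7, 5, 7, 5, 7, 5, 7, 13, 8, 6, 8, 6, 8, 6, 8, 6, 8, 6, 14], 1), ([7, 6, 7, 6, 7, 6, 7, 6, 7, 6, 1, 5, 8, 5, 8, 5, 8, 5, 8, 5, 8, 2], 1), ([7, 6, 7, 6, 7, 6, 7, 6, 7, 6, 3, 5, 8, 5, 8, 5, 8, 5, 8, 5, 8, 4], 1), ([7, 6, 7, 6, 7, 6, 7, 6, 7, 5, 8, 5, 8, 5, 8, 5, 8, 5, 8, 6], 1), ([7, 6, 7, 6, 7, 6, 7, 6, 7, 6, 7, 5, 8, 5, 8, 5, 8, 5, 8, 5, 8, 8], 1), ([7, 6, 7, 6, 7, 6, 7, 6, 7, 6, 9, 5, 8, 5, 8, 5, 8, 5, 8, 5, 8, 10], 1), ([7, 6, 7, 6, 7, 6, 7, 6, 7, 6, 11, 5, 8, 5, 8, 5, 8, 5, 8, 5, 8, 12], 1), ([7, 6, 7, 6, 7, 6, 7, 6, 7, 6, 13, 5, 8, 5, 8, 5, 8, 5, 8,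 5, 8, 14], 1), ([9, 9, 1, 10, 10, 2], 1), ([9, 9, 3, 10, 10, 4], 1), ([9, 9, 5, 10, 10, 6], 1), ([9, 9, 7, 10, 10, 8], 1), ([9, 9, 11, 10, 10, 12], 1), ([9, 9, 13, 10, 10, 14], 1), ([9, 4, 8, 10, 7, 3, 1, 4, 8, 9, 7, 3, 10, 2], 1), ([9, 4, 8, 10, 7, 3, 8, 9, 7, 3, 10, 4], 1), ([9, 4, 8, 10, 7, 3, 5, 4, 8, 9, 7, 3, 10, 6], 1), ([9, 4, 8, 10, 7, 3, 7, 4, 8, 9, 7, 3, 10, 8], 1), ([9, 4, 8, 10, 7, 3, 9, 4, 8, 9, 7, 3, 10, 10], 1), ([9, 4, 8, 10, 7, 3, 11, 4, 8, 9, 7, 3, 10, 12], 1), ([9, 4, 8, 10, 7, 3, 13, 4, 8, 9, 7, 3, 10, 14], 1), ([9, 1, 6, 1, 4, 10, 3, 2, 5, 1, 6, 1, 4, 9, 3, 2, 5, 2, 10, 2], 1), ([9, 1, 6, 1, 4, 10, 3, 2, 5, 2, 3, 1, 6, 1, 4, 9, 3, 2, 5, 2, 10, 4],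 1), ([9, 1, 6, 1, 4, 10, 3, 2, 5, 2, 5, 1, 6, 1, 4, 9, 3, 2, 5, 2, 10, 6], 1), ([9, 1, 6, 1, 4, 10, 3, 2, 5, 2, 7, 1, 6, 1, 4, 9, 3, 2, 5, 2, 10, 8], 1), ([9, 1, 6, 1, 4, 10, 3, 2, 5, 2, 9, 1, 6, 1, 4, 9, 3, 2, 5, 2, 10, 10], 1), ([9, 1, 6, 1, 4, 10, 3, 2, 5, 2, 11, 1, 6, 1, 4, 9, 3, 2, 5, 2, 10, 12], 1), ([9, 1, 6, 1, 4, 10, 3, 2, 5, 2, 13, 1, 6, 1, 4, 9, 3, 2, 5, 2, 10, 14], 1), ([11, 9, 11, 9, 1, 10, 12, 10, 12, 2], 1), ([11, 9, 11, 9, 3, 10, 12, 10, 12, 4], 1), ([11, 9, 11, 9, 5, 10, 12, 10, 12, 6], 1), ([11, 9, 11, 9, 7, 10, 12, 10, 12, 8], 1), ([11, 9, 11, 9, 12, 10, 12, 10], 1), ([11, 9, 11, 9, 11, 10, 12, 10, 12, 12], 1), ([11, 9, 11, 9, 13, 10, 12, 10, 12,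 14], 1), ([11, 4, 1, 6, 1, 11, 2, 5, 2, 9, 3, 1, 4, 10, 1, 6, 1, 12, 2, 5, 2, 3, 12, 2], 1), ([11, 4, 1, 6, 1, 11, 2, 5, 2, 9, 3, 10, 1, 6, 1, 12, 2, 5, 2, 3, 12, 4], 1), ([11, 4, 1, 6, 1, 11, 2, 5, 2, 9, 3, 5, 4, 10, 1, 6, 1, 12, 2, 5, 2, 3, 12, 6], 1), ([11, 4, 1, 6, 1, 11, 2, 5, 2, 9, 3, 7, 4, 10, 1, 6, 1, 12, 2, 5, 2, 3, 12, 8], 1), ([11, 4, 1, 6, 1, 11, 2, 5, 2, 9, 3, 9, 4, 10, 1, 6, 1, 12, 2, 5, 2, 3, 12, 10], 1), ([11, 4, 1, 6, 1, 11, 2, 5, 2, 9, 3, 11, 4, 10, 1, 6, 1, 12, 2, 5, 2, 3, 12, 12], 1), ([11, 4, 1, 6, 1, 11, 2, 5, 2, 9, 3, 13, 4, 10, 1, 6, 1, 12, 2, 5, 2, 3, 12, 14], 1), ([11, 4, 1, 9, 6, 8, 3, 11, 6, 9, 7, 5, 9, 1, 10, 6, 8, 10, 5, 12, 4, 7, 5, 10,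 2, 3, 12, 2], 1), ([11, 4, 1, 9, 6, 8, 3, 11, 6, 9, 7, 5, 9, 3, 10, 6, 8, 10, 5, 12, 4, 7, 5, 10, 2, 3, 12, 4], 1), ([11, 4, 1, 9, 6, 8, 3, 11, 6, 9, 7, 5, 9, 5, 10, 6, 8, 10, 5, 12, 4, 7, 5, 10, 2, 3, 12, 6], 1), ([11, 4, 1, 9, 6, 8, 3, 11, 6, 9, 7, 5, 9, 7, 10, 6, 8, 10, 5, 12, 4, 7, 5, 10, 2, 3, 12, 8], 1), ([11, 4, 1, 9, 6, 8, 3, 11, 6, 9, 7, 5, 9, 6, 8, 10, 5, 12, 4, 7, 5, 10, 2, 3, 12, 10], 1), ([11, 4, 1, 9, 6, 8, 3, 11, 6, 9, 7, 5, 9, 11, 10, 6, 8, 10, 5, 12, 4, 7, 5, 10, 2, 3, 12, 12], 1), ([11, 4, 1, 9, 6, 8, 3, 11, 6, 9, 7, 5, 9, 13, 10, 6, 8, 10, 5, 12, 4, 7, 5, 10, 2, 3, 12, 14], 1), ([8, 11, 7, 11, 1, 12, 8, 12, 7, 2], 1), ([8, 11, 7, 11, 3, 12, 8, 12,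 7, 4], 1), ([8, 11, 7, 11, 5, 12, 8, 12, 7, 6], 1), ([8, 11, 7, 11, 7, 12, 8, 12], 1), ([8, 11, 7, 11, 9, 12, 8, 12, 7, 10], 1), ([8, 11, 7, 11, 8, 12, 7, 12], 1), ([8, 11, 7, 11, 13, 12, 8, 12, 7, 14], 1), ([2, 3, 11, 2, 3, 11, 2, 3, 11, 1, 12, 4, 1, 12, 4, 1, 12, 4], 1), ([2, 3, 11, 2, 3, 11, 2, 3, 11, 3, 12, 4, 1, 12, 4, 1, 12, 4, 1, 4], 1), ([2, 3, 11, 2, 3, 11, 2, 3, 11, 5, 12, 4, 1, 12, 4, 1, 12, 4, 1, 6], 1), ([2, 3, 11, 2, 3, 11, 2, 3, 11, 7, 12, 4, 1, 12, 4, 1, 12, 4, 1, 8], 1), ([2, 3, 11, 2, 3, 11, 2, 3, 11, 9, 12, 4, 1, 12, 4, 1, 12, 4, 1, 10], 1), ([2, 3, 11, 2, 3, 11, 2, 3, 11, 4, 1, 12, 4, 1, 12, 4, 1, 12], 1), ([2, 3, 11, 2, 3, 11, 2, 3, 11, 13, 12,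 4, 1, 12, 4, 1, 12, 4, 1, 14], 1), ([2, 11, 4, 2, 11, 1, 3, 11, 4, 1, 3, 12, 4, 2, 12, 1, 3, 12], 1), ([2, 11, 4, 2, 11, 1, 3, 11, 3, 12, 4, 2, 12, 1, 3, 12, 1, 4], 1), ([2, 11, 4, 2, 11, 1, 3, 11, 4, 5, 3, 12, 4, 2, 12, 1, 3, 12, 1, 6], 1), ([2, 11, 4, 2, 11, 1, 3, 11, 4, 7, 3, 12, 4, 2, 12, 1, 3, 12, 1, 8], 1), ([2, 11, 4, 2, 11, 1, 3, 11, 4, 9, 3, 12, 4, 2, 12, 1, 3, 12, 1, 10], 1), ([2, 11, 4, 2, 11, 1, 3, 11, 4, 11, 3, 12, 4, 2, 12, 1, 3, 12, 1, 12], 1), ([2, 11, 4, 2, 11, 1, 3, 11, 4, 13, 3, 12, 4, 2, 12, 1, 3, 12, 1, 14], 1), ([13, 13, 13, 1, 14, 14, 14, 2], 1), ([13, 13, 13, 3, 14, 14, 14, 4], 1), ([13, 13, 13, 5, 14, 14, 14, 6], 1), ([13, 13, 13, 7, 14, 14,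 14, 8], 1), ([13, 13, 13, 9, 14, 14, 14, 10], 1), ([13, 13, 13, 11, 14, 14, 14, 12], 1), ([2, 14, 1, 13, 1, 14, 2, 13], 1), ([2, 14, 1, 13, 3, 14, 2, 13, 1, 4], 1), ([2, 14, 1, 13, 5, 14, 2, 13, 1, 6], 1), ([2, 14, 1, 13, 7, 14, 2, 13, 1, 8], 1), ([2, 14, 1, 13, 9, 14, 2, 13, 1, 10], 1), ([2, 14, 1, 13, 11, 14, 2, 13, 1, 12], 1), ([2, 14, 1, 13, 2, 13, 1, 14], 1), ([4, 14, 3, 13, 1, 14, 4, 13, 3, 2], 1), ([4, 14, 3, 13, 3, 14, 4, 13], 1), ([4, 14, 3, 13, 5, 14, 4, 13, 3, 6], 1), ([4, 14, 3, 13, 7, 14, 4, 13, 3, 8], 1), ([4, 14, 3, 13, 9, 14, 4, 13, 3, 10], 1), ([4, 14, 3, 13, 11, 14, 4, 13, 3, 12], 1), ([4, 14, 3, 13, 4, 13, 3, 14], 1), ([6, 14, 5, 13, 1, 14, 6, 13,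 5, 2], 1), ([6, 14, 5, 13, 3, 14, 6, 13, 5, 4], 1), ([6, 14, 5, 13, 5, 14, 6, 13], 1), ([6, 14, 5, 13, 7, 14, 6, 13, 5, 8], 1), ([6, 14, 5, 13, 9, 14, 6, 13, 5, 10], 1), ([6, 14, 5, 13, 11, 14, 6, 13, 5, 12], 1), ([6, 14, 5, 13, 6, 13, 5, 14], 1), ([14, 8, 14, 8, 1, 7, 13, 7, 13, 2], 1), ([14, 8, 14, 8, 3, 7, 13, 7, 13, 4], 1), ([14, 8, 14, 8, 5, 7, 13, 7, 13, 6], 1), ([14, 8, 14, 7, 13, 7, 13, 8], 1), ([14, 8, 14, 8, 9, 7, 13, 7, 13, 10], 1), ([14, 8, 14, 8, 11, 7, 13, 7, 13, 12], 1), ([14, 8, 14, 8, 13, 7, 13, 7], 1), ([14, 9, 14, 9, 14, 9, 1, 10, 13, 10, 13, 10, 13, 2], 1), ([14, 9, 14, 9, 14, 9, 3, 10, 13, 10, 13, 10, 13, 4], 1), ([14, 9, 14, 9, 14, 9, 5, 10, 13,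 10, 13, 10, 13, 6], 1), ([14, 9, 14, 9, 14, 9, 7, 10, 13, 10, 13, 10, 13, 8], 1), ([14, 9, 14, 9, 14, 9, 13, 10, 13, 10, 13, 10], 1), ([14, 9, 14, 9, 14, 9, 11, 10, 13, 10, 13, 10, 13, 12], 1), ([1, 4, 1, 14, 8, 2, 3, 2, 7, 13, 1, 14, 8, 1, 4, 1, 7, 13, 2, 3, 2, 2], 1), ([1, 4, 1, 14, 8, 2, 3, 2, 7, 13, 3, 14, 8, 1, 4, 1, 7, 13, 2, 3, 2, 4], 1), ([1, 4, 1, 14, 8, 2, 3, 2, 7, 13, 5, 14, 8, 1, 4, 1, 7, 13, 2, 3, 2, 6], 1), ([1, 4, 1, 14, 8, 2, 3, 2, 7, 13, 7, 14, 8, 1, 4, 1, 7, 13, 2, 3, 2, 8], 1), ([1, 4, 1, 14, 8, 2, 3, 2, 7, 13, 9, 14, 8, 1, 4, 1, 7, 13, 2, 3, 2, 10], 1), ([1, 4, 1, 14, 8, 2, 3, 2, 7, 13, 11, 14, 8, 1, 4, 1, 7, 13, 2, 3, 2, 12], 1), ([1, 4, 1, 14,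 8, 2, 3, 2, 7, 13, 8, 1, 4, 1, 7, 13, 2, 3, 2, 14], 1), ([1, 4, 1, 5, 9, 2, 3, 5, 1, 9, 6, 2, 3, 2, 5, 10, 2, 6, 4, 1, 10, 6, 1, 5, 9, 2, 3, 5, 1, 9, 6, 1, 4, 1, 5, 10, 2, 6, 4, 1, 10, 6, 2, 3, 2, 2], 1), ([1, 4, 1, 5, 9, 2, 3, 5, 1, 9, 6, 2, 3, 2, 5, 10, 2, 6, 4, 1, 10, 6, 3, 5, 9, 2, 3, 5, 1, 9, 6, 1, 4, 1, 5, 10, 2, 6, 4, 1, 10, 6, 2, 3, 2, 4], 1), ([1, 4, 1, 5, 9, 2, 3, 5, 1, 9, 6, 2, 3, 2, 5, 10, 2, 6, 4, 1, 10, 5, 9, 2, 3, 5, 1, 9, 6, 1, 4, 1, 5, 10, 2, 6, 4, 1, 10, 6, 2, 3, 2, 6], 1), ([1, 4, 1, 5, 9, 2, 3, 5, 1, 9, 6, 2, 3, 2, 5, 10, 2, 6, 4, 1, 10, 6, 7, 5, 9, 2, 3, 5, 1, 9, 6, 1, 4, 1, 5, 10, 2, 6, 4, 1, 10, 6, 2, 3, 2, 8], 1), ([1, 4, 1, 5, 9, 2, 3, 5, 1,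 9, 6, 2, 3, 2, 5, 10, 2, 6, 4, 1, 10, 6, 9, 5, 9, 2, 3, 5, 1, 9, 6, 1, 4, 1, 5, 10, 2, 6, 4, 1, 10, 6, 2, 3, 2, 10], 1), ([1, 4, 1, 5, 9, 2, 3, 5, 1, 9, 6, 2, 3, 2, 5, 10, 2, 6, 4, 1, 10, 6, 11, 5, 9, 2, 3, 5, 1, 9, 6, 1, 4, 1, 5, 10, 2, 6, 4, 1, 10, 6, 2, 3, 2, 12], 1), ([1, 4, 1, 5, 9, 2, 3, 5, 1, 9, 6, 2, 3, 2, 5, 10, 2, 6, 4, 1, 10, 6, 13, 5, 9, 2, 3, 5, 1, 9, 6, 1, 4, 1, 5, 10, 2, 6, 4, 1, 10, 6, 2, 3, 2, 14], 1), ([14, 8, 5, 9, 2, 3, 5, 1, 9, 6, 7, 13, 5, 10, 2, 6, 4, 1, 10, 6, 2, 3, 2, 4, 1, 3, 1, 4, 1, 5, 9, 2, 3, 5, 1, 9, 6, 14, 8, 5, 10, 2, 6, 4, 1, 10, 6, 7, 13, 2], 1), ([14, 8, 5, 9, 2, 3, 5, 1, 9, 6, 7, 13, 5, 10, 2, 6, 4, 1, 10, 6, 2, 3, 2, 4, 2, 3, 1,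 3, 1, 4, 1, 5, 9, 2, 3, 5, 1, 9, 6, 14, 8, 5, 10, 2, 6, 4, 1, 10, 6, 7, 13, 4], 1), ([14, 8, 5, 9, 2, 3, 5, 1, 9, 6, 7, 13, 5, 10, 2, 6, 4, 1, 10, 6, 2, 3, 2, 4, 2, 5, 1, 3, 1, 4, 1, 5, 9, 2, 3, 5, 1, 9, 6, 14, 8, 5, 10, 2, 6, 4, 1, 10, 6, 7, 13, 6], 1), ([14, 8, 5, 9, 2, 3, 5, 1, 9, 6, 7, 13, 5, 10, 2, 6, 4, 1, 10, 6, 2, 3, 2, 4, 2, 7, 1, 3, 1, 4, 1, 5, 9, 2, 3, 5, 1, 9, 6, 14, 8, 5, 10, 2, 6, 4, 1, 10, 6, 7, 13, 8], 1), ([14, 8, 5, 9, 2, 3, 5, 1, 9, 6, 7, 13, 5, 10, 2, 6, 4, 1, 10, 6, 2, 3, 2, 4, 2, 9, 1, 3, 1, 4, 1, 5, 9, 2, 3, 5, 1, 9, 6, 14, 8, 5, 10, 2, 6, 4, 1, 10, 6, 7, 13, 10], 1), ([14, 8, 5, 9, 2, 3, 5, 1, 9, 6, 7, 13, 5, 10, 2, 6, 4, 1, 10, 6, 2, 3, 2, 4,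 2, 11, 1, 3, 1, 4, 1, 5, 9, 2, 3, 5, 1, 9, 6, 14, 8, 5, 10, 2, 6, 4, 1, 10, 6, 7, 13, 12], 1), ([14, 8, 5, 9, 2, 3, 5, 1, 9, 6, 7, 13, 5, 10, 2, 6, 4, 1, 10, 6, 2, 3, 2, 4, 2, 13, 1, 3, 1, 4, 1, 5, 9, 2, 3, 5, 1, 9, 6, 14, 8, 5, 10, 2, 6, 4, 1, 10, 6, 7], 1), ([1, 4, 5, 13, 8, 6, 3, 2, 4, 5, 7, 14, 6, 3, 1, 4, 5, 13, 8, 6, 3, 1, 4, 5, 7, 14, 6, 3, 2, 2], 1), ([1, 4, 5, 13, 8, 6, 3, 2, 4, 5, 7, 14, 6, 3, 5, 13, 8, 6, 3, 1, 4, 5, 7, 14, 6, 3, 2, 4], 1), ([1, 4, 5, 13, 8, 6, 3, 2, 4, 5, 7, 14, 6, 3, 5, 4, 5, 13, 8, 6, 3, 1, 4, 5, 7, 14, 6, 3, 2, 6], 1), ([1, 4, 5, 13, 8, 6, 3, 2, 4, 5, 7, 14, 6, 3, 7, 4, 5, 13, 8, 6, 3, 1, 4, 5, 7, 14, 6, 3, 2, 8], 1), ([1, 4, 5, 13, 8,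 6, 3, 2, 4, 5, 7, 14, 6, 3, 9, 4, 5, 13, 8, 6, 3, 1, 4, 5, 7, 14, 6, 3, 2, 10], 1), ([1, 4, 5, 13, 8, 6, 3, 2, 4, 5, 7, 14, 6, 3, 11, 4, 5, 13, 8, 6, 3, 1, 4, 5, 7, 14, 6, 3, 2, 12], 1), ([1, 4, 5, 13, 8, 6, 3, 2, 4, 5, 7, 14, 6, 3, 13, 4, 5, 13, 8, 6, 3, 1, 4, 5, 7, 14, 6, 3, 2, 14], 1), ([1, 8, 2, 7, 1, 8, 1, 7, 2, 2], 1), ([1, 8, 2, 7, 3, 8, 1, 7, 2, 4], 1), ([1, 8, 2, 7, 5, 8, 1, 7, 2, 6], 1), ([1, 8, 2, 7, 1, 7, 2, 8], 1), ([1, 8, 2, 7, 9, 8, 1, 7, 2, 10], 1), ([1, 8, 2, 7, 11, 8, 1, 7, 2, 12], 1), ([1, 8, 2, 7, 13, 8, 1, 7, 2, 14], 1), ([4, 5, 13, 8, 6, 3, 8, 4, 5, 7, 14, 6, 3, 7, 3, 6, 7, 5, 8, 4, 1, 3, 7, 6, 8, 5, 4, 8, 4, 5, 13, 8, 6, 3, 7, 4, 5, 7, 14, 6,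 3, 2], 1), ([4, 5, 13, 8, 6, 3, 8, 4, 5, 7, 14, 6, 3, 7, 3, 6, 7, 5, 8, 3, 7, 6, 8, 5, 4, 8, 4, 5, 13, 8, 6, 3, 7, 4, 5, 7, 14, 6], 1), ([4, 5, 13, 8, 6, 3, 8, 4, 5, 7, 14, 6, 3, 7, 3, 6, 7, 5, 8, 4, 5, 3, 7, 6, 8, 5, 4, 8, 4, 5, 13, 8, 6, 3, 7, 4, 5, 7, 14, 6, 3, 6], 1), ([4, 5, 13, 8, 6, 3, 8, 4, 5, 7, 14, 6, 3, 7, 3, 6, 7, 5, 8, 4, 7, 3, 7, 6, 8, 5, 4, 8, 4, 5, 13, 8, 6, 3, 7, 4, 5, 7, 14, 6, 3, 8], 1), ([4, 5, 13, 8, 6, 3, 8, 4, 5, 7, 14, 6, 3, 7, 3, 6, 7, 5, 8, 4, 9, 3, 7, 6, 8, 5, 4, 8, 4, 5, 13, 8, 6, 3, 7, 4, 5, 7, 14, 6, 3, 10], 1), ([4, 5, 13, 8, 6, 3, 8, 4, 5, 7, 14, 6, 3, 7, 3, 6, 7, 5, 8, 4, 11, 3, 7, 6, 8, 5, 4, 8, 4, 5, 13, 8, 6, 3, 7, 4, 5, 7, 14, 6,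 3, 12], 1), ([4, 5, 13, 8, 6, 3, 8, 4, 5, 7, 14, 6, 3, 7, 3, 6, 7, 5, 8, 4, 13, 3, 7, 6, 8, 5, 4, 8, 4, 5, 13, 8, 6, 3, 7, 4, 5, 7, 14, 6, 3, 14], 1), ([4, 5, 8, 13, 8, 6, 7, 3, 9, 5, 9, 4, 8, 5, 7, 14, 7, 6, 3, 10, 6, 10, 1, 9, 5, 9, 4, 5, 8, 13, 8, 6, 7, 3, 10, 6, 10, 4, 8, 5, 7, 14, 7, 6, 3, 2], 1), ([4, 5, 8, 13, 8, 6, 7, 3, 9, 5, 9, 4, 8, 5, 7, 14, 7, 6, 3, 10, 6, 10, 3, 9, 5, 9, 4, 5, 8, 13, 8, 6, 7, 3, 10, 6, 10, 4, 8, 5, 7, 14, 7, 6], 1), ([4, 5, 8, 13, 8, 6, 7, 3, 9, 5, 9, 4, 8, 5, 7, 14, 7, 6, 3, 10, 6, 10, 5, 9, 5, 9, 4, 5, 8, 13, 8, 6, 7, 3, 10, 6, 10, 4, 8, 5, 7, 14, 7, 6, 3, 6], 1), ([4, 5, 8, 13, 8, 6, 7, 3, 9, 5, 9, 4, 8, 5, 7, 14, 7, 6, 3, 10, 6, 10,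 7, 9, 5, 9, 4, 5, 8, 13, 8, 6, 7, 3, 10, 6, 10, 4, 8, 5, 7, 14, 7, 6, 3, 8], 1), ([4, 5, 8, 13, 8, 6, 7, 3, 9, 5, 9, 4, 8, 5, 7, 14, 7, 6, 3, 10, 6, 9, 5, 9, 4, 5, 8, 13, 8, 6, 7, 3, 10, 6, 10, 4, 8, 5, 7, 14, 7, 6, 3, 10], 1), ([4, 5, 8, 13, 8, 6, 7, 3, 9, 5, 9, 4, 8, 5, 7, 14, 7, 6, 3, 10, 6, 10, 11, 9, 5, 9, 4, 5, 8, 13, 8, 6, 7, 3, 10, 6, 10, 4, 8, 5, 7, 14, 7, 6, 3, 12], 1), ([4, 5, 8, 13, 8, 6, 7, 3, 9, 5, 9, 4, 8, 5, 7, 14, 7, 6, 3, 10, 6, 10, 13, 9, 5, 9, 4, 5, 8, 13, 8, 6, 7, 3, 10, 6, 10, 4, 8, 5, 7, 14, 7, 6, 3, 14], 1), ([4, 5, 8, 13, 8, 6, 7, 3, 1, 9, 6, 9, 1, 4, 8, 5, 7, 14, 7, 6, 3, 2, 10, 5, 10, 1, 9, 6, 9, 1, 4, 5, 8, 13, 8, 6, 7, 3, 2, 10, 5, 10, 2,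 4, 8, 5, 7, 14, 7, 6, 3, 2], 1), ([4, 5, 8, 13, 8, 6, 7, 3, 1, 9, 6, 9, 1, 4, 8, 5, 7, 14, 7, 6, 3, 2, 10, 5, 10, 2, 3, 1, 9, 6, 9, 1, 4, 5, 8, 13, 8, 6, 7, 3, 2, 10, 5, 10, 2, 4, 8, 5, 7, 14, 7, 6], 1), ([4, 5, 8, 13, 8, 6, 7, 3, 1, 9, 6, 9, 1, 4, 8, 5, 7, 14, 7, 6, 3, 2, 10, 5, 10, 2, 5, 1, 9, 6, 9, 1, 4, 5, 8, 13, 8, 6, 7, 3, 2, 10, 5, 10, 2, 4, 8, 5, 7, 14, 7, 6, 3, 6], 1), ([4, 5, 8, 13, 8, 6, 7, 3, 1, 9, 6, 9, 1, 4, 8, 5, 7, 14, 7, 6, 3, 2, 10, 5, 10, 2, 7, 1, 9, 6, 9, 1, 4, 5, 8, 13, 8, 6, 7, 3, 2, 10, 5, 10, 2, 4, 8, 5, 7, 14, 7, 6, 3, 8], 1), ([4, 5, 8, 13, 8, 6, 7, 3, 1, 9, 6, 9, 1, 4, 8, 5, 7, 14, 7, 6, 3, 2, 10, 5, 10, 2, 9, 1, 9, 6, 9, 1, 4, 5, 8, 13, 8,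 6, 7, 3, 2, 10, 5, 10, 2, 4, 8, 5, 7, 14, 7, 6, 3, 10], 1), ([4, 5, 8, 13, 8, 6, 7, 3, 1, 9, 6, 9, 1, 4, 8, 5, 7, 14, 7, 6, 3, 2, 10, 5, 10, 2, 11, 1, 9, 6, 9, 1, 4, 5, 8, 13, 8, 6, 7, 3, 2, 10, 5, 10, 2, 4, 8, 5, 7, 14, 7, 6, 3, 12], 1), ([4, 5, 8, 13, 8, 6, 7, 3, 1, 9, 6, 9, 1, 4, 8, 5, 7, 14, 7, 6, 3, 2, 10, 5, 10, 2, 13, 1, 9, 6, 9, 1, 4, 5, 8, 13, 8, 6, 7, 3, 2, 10, 5, 10, 2, 4, 8, 5, 7, 14, 7, 6, 3, 14], 1), ([9, 5, 9, 1, 9, 6, 9, 1, 10, 6, 10, 2, 10, 5, 10, 2, 10, 8, 1, 6, 1, 5, 2, 7, 9, 1, 9, 6, 9, 1, 9, 5, 9, 2, 10, 5, 10, 2, 10, 6, 10, 2], 1), ([9, 5, 9, 1, 9, 6, 9, 1, 10, 6, 10, 2, 10, 5, 10, 2, 10, 8, 1, 6, 3, 5, 2, 7, 9, 1, 9, 6, 9, 1, 9, 5, 9, 2, 10, 5,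 10, 2, 10, 6, 10, 4], 1), ([9, 5, 9, 1, 9, 6, 9, 1, 10, 6, 10, 2, 10, 5, 10, 2, 10, 8, 1, 5, 2, 7, 9, 1, 9, 6, 9, 1, 9, 5, 9, 2, 10, 5, 10, 2, 10, 6, 10, 6], 1), ([9, 5, 9, 1, 9, 6, 9, 1, 10, 6, 10, 2, 10, 5, 10, 2, 10, 8, 1, 6, 7, 5, 2, 7, 9, 1, 9, 6, 9, 1, 9, 5, 9, 2, 10, 5, 10, 2, 10, 6, 10, 8], 1), ([9, 5, 9, 1, 9, 6, 9, 1, 10, 6, 10, 2, 10, 5, 10, 2, 10, 8, 1, 6, 9, 5, 2, 7, 9, 1, 9, 6, 9, 1, 9, 5, 9, 2, 10, 5, 10, 2, 10, 6, 10, 10], 1), ([9, 5, 9, 1, 9, 6, 9, 1, 10, 6, 10, 2, 10, 5, 10, 2, 10, 8, 1, 6, 11, 5, 2, 7, 9, 1, 9, 6, 9, 1, 9, 5, 9, 2, 10, 5, 10, 2, 10, 6, 10, 12], 1), ([9, 5, 9, 1, 9, 6, 9, 1, 10, 6, 10, 2, 10, 5, 10, 2, 10, 8, 1, 6, 13, 5, 2, 7, 9,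 1, 9, 6, 9, 1, 9, 5, 9, 2, 10, 5, 10, 2, 10, 6, 10, 14], 1), ([13, 3, 14, 4, 1, 3, 13, 4, 14, 2], 1), ([13, 3, 14, 3, 13, 4, 14, 4], 1), ([13, 3, 14, 4, 5, 3, 13, 4, 14, 6], 1), ([13, 3, 14, 4, 7, 3, 13, 4, 14, 8], 1), ([13, 3, 14, 4, 9, 3, 13, 4, 14, 10], 1), ([13, 3, 14, 4, 11, 3, 13, 4, 14, 12], 1), ([13, 3, 14, 4, 13, 3, 13, 4, 14, 14], 1), ([13, 3, 8, 13, 11, 14, 7, 14, 8, 13, 12, 14, 7, 4, 1, 3, 8, 13, 11, 14, 7, 13, 8, 13, 12, 14, 7, 4, 14, 2], 1), ([13, 3, 8, 13, 11, 14, 7, 14, 8, 13, 12, 14, 7, 3, 8, 13, 11, 14, 7, 13, 8, 13, 12, 14, 7, 4, 14, 4], 1), ([13, 3, 8, 13, 11, 14, 7, 14, 8, 13, 12, 14, 7, 4, 5, 3, 8, 13, 11, 14, 7, 13, 8, 13, 12, 14, 7, 4, 14, 6],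 1), ([13, 3, 8, 13, 11, 14, 7, 14, 8, 13, 12, 14, 7, 4, 7, 3, 8, 13, 11, 14, 7, 13, 8, 13, 12, 14, 7, 4, 14, 8], 1), ([13, 3, 8, 13, 11, 14, 7, 14, 8, 13, 12, 14, 7, 4, 9, 3, 8, 13, 11, 14, 7, 13, 8, 13, 12, 14, 7, 4, 14, 10], 1), ([13, 3, 8, 13, 11, 14, 7, 14, 8, 13, 12, 14, 7, 4, 11, 3, 8, 13, 11, 14, 7, 13, 8, 13, 12, 14, 7, 4, 14, 12], 1), ([13, 3, 8, 13, 11, 14, 7, 14, 8, 13, 12, 14, 7, 4, 13, 3, 8, 13, 11, 14, 7, 13, 8, 13, 12, 14, 7, 4, 14, 14], 1), ([3, 3, 8, 13, 11, 14, 7, 4, 8, 13, 12, 14, 7, 4, 4, 6, 8, 5, 7, 6, 11, 14, 7, 11, 1, 12, 8, 13, 12, 5, 8, 6, 7, 5, 3, 3, 8, 13, 11, 14, 7, 3, 8, 13, 12, 14, 7, 4, 4, 2], 1), ([3, 3, 8, 13, 11, 14, 7, 4, 8, 13, 12,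 14, 7, 4, 4, 6, 8, 5, 7, 6, 11, 14, 7, 11, 3, 12, 8, 13, 12, 5, 8, 6, 7, 5, 3, 3, 8, 13, 11, 14, 7, 3, 8, 13, 12, 14, 7, 4, 4, 4], 1), ([3, 3, 8, 13, 11, 14, 7, 4, 8, 13, 12, 14, 7, 4, 4, 6, 8, 5, 7, 6, 11, 14, 7, 11, 5, 12, 8, 13, 12, 5, 8, 6, 7, 5, 3, 3, 8, 13, 11, 14, 7, 3, 8, 13, 12, 14, 7, 4, 4, 6], 1), ([3, 3, 8, 13, 11, 14, 7, 4, 8, 13, 12, 14, 7, 4, 4, 6, 8, 5, 7, 6, 11, 14, 7, 11, 7, 12, 8, 13, 12, 5, 8, 6, 7, 5, 3, 3, 8, 13, 11, 14, 7, 3, 8, 13, 12, 14, 7, 4, 4, 8], 1), ([3, 3, 8, 13, 11, 14, 7, 4, 8, 13, 12, 14, 7, 4, 4, 6, 8, 5, 7, 6, 11, 14, 7, 11, 9, 12, 8, 13, 12, 5, 8, 6, 7, 5, 3, 3, 8, 13, 11, 14, 7, 3, 8, 13, 12, 14, 7, 4, 4, 10], 1), ([3, 3, 8, 13,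 11, 14, 7, 4, 8, 13, 12, 14, 7, 4, 4, 6, 8, 5, 7, 6, 11, 14, 7, 11, 8, 13, 12, 5, 8, 6, 7, 5, 3, 3, 8, 13, 11, 14, 7, 3, 8, 13, 12, 14, 7, 4, 4, 12], 1), ([3, 3, 8, 13, 11, 14, 7, 4, 8, 13, 12, 14, 7, 4, 4, 6, 8, 5, 7, 6, 11, 14, 7, 11, 13, 12, 8, 13, 12, 5, 8, 6, 7, 5, 3, 3, 8, 13, 11, 14, 7, 3, 8, 13, 12, 14, 7, 4, 4, 14], 1), ([4, 5, 8, 13, 8, 5, 8, 10, 4, 2, 4, 5, 8, 13, 8, 5, 8, 10, 4, 2, 10, 8, 1, 6, 1, 5, 2, 7, 9, 1, 3, 9, 7, 6, 7, 14, 7, 6, 3, 1, 3, 9, 7, 6, 7, 14, 7, 6, 3, 2], 1), ([4, 5, 8, 13, 8, 5, 8, 10, 4, 2, 4, 5, 8, 13, 8, 5, 8, 10, 4, 2, 10, 8, 1, 6, 3, 5, 2, 7, 9, 1, 3, 9, 7, 6, 7, 14, 7, 6, 3, 1, 3, 9, 7, 6, 7, 14, 7, 6], 1), ([4, 5, 8, 13, 8, 5,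 8, 10, 4, 2, 4, 5, 8, 13, 8, 5, 8, 10, 4, 2, 10, 8, 1, 5, 2, 7, 9, 1, 3, 9, 7, 6, 7, 14, 7, 6, 3, 1, 3, 9, 7, 6, 7, 14, 7, 6, 3, 6], 1), ([4, 5, 8, 13, 8, 5, 8, 10, 4, 2, 4, 5, 8, 13, 8, 5, 8, 10, 4, 2, 10, 8, 1, 6, 7, 5, 2, 7, 9, 1, 3, 9, 7, 6, 7, 14, 7, 6, 3, 1, 3, 9, 7, 6, 7, 14, 7, 6, 3, 8], 1), ([4, 5, 8, 13, 8, 5, 8, 10, 4, 2, 4, 5, 8, 13, 8, 5, 8, 10, 4, 2, 10, 8, 1, 6, 9, 5, 2, 7, 9, 1, 3, 9, 7, 6, 7, 14, 7, 6, 3, 1, 3, 9, 7, 6, 7, 14, 7, 6, 3, 10], 1), ([4, 5, 8, 13, 8, 5, 8, 10, 4, 2, 4, 5, 8, 13, 8, 5, 8, 10, 4, 2, 10, 8, 1, 6, 11, 5, 2, 7, 9, 1, 3, 9, 7, 6, 7, 14, 7, 6, 3, 1, 3, 9, 7, 6, 7, 14, 7, 6, 3, 12], 1), ([4, 5, 8, 13, 8, 5, 8, 10, 4, 2, 4, 5, 8,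 13, 8, 5, 8, 10, 4, 2, 10, 8, 1, 6, 13, 5, 2, 7, 9, 1, 3, 9, 7, 6, 7, 14, 7, 6, 3, 1, 3, 9, 7, 6, 7, 14, 7, 6, 3, 14], 1), ([1, 6, 9, 8, 5, 2, 7, 9, 5, 2, 7, 9, 5, 2, 7, 9, 4, 8, 5, 7, 14, 7, 6, 3, 1, 3, 9, 7, 6, 7, 14, 7, 6, 3, 1, 4, 5, 8, 13, 8, 5, 8, 10, 4, 2, 4, 5, 8, 13, 8, 6, 7, 3, 10, 8, 1, 6, 10, 8, 1, 6, 10, 8, 1, 6, 7, 10, 5, 2, 2], 1), ([1, 6, 9, 8, 5, 2, 7, 9, 5, 2, 7, 9, 5, 2, 7, 9, 4, 8, 5, 7, 14, 7, 6, 3, 1, 3, 9, 7, 6, 7, 14, 7, 6, 3, 5, 8, 13, 8, 5, 8, 10, 4, 2, 4, 5, 8, 13, 8, 6, 7, 3, 10, 8, 1, 6, 10, 8, 1, 6, 10, 8, 1, 6, 7, 10, 5, 2, 4], 1), ([1, 6, 9, 8, 5, 2, 7, 9, 5, 2, 7, 9, 5, 2, 7, 9, 4, 8, 5, 7, 14, 7, 6, 3, 1, 3, 9, 7, 6, 7, 14, 7, 6, 3,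 5, 4, 5, 8, 13, 8, 5, 8, 10, 4, 2, 4, 5, 8, 13, 8, 6, 7, 3, 10, 8, 1, 6, 10, 8, 1, 6, 10, 8, 1, 6, 7, 10, 5, 2, 6], 1), ([1, 6, 9, 8, 5, 2, 7, 9, 5, 2, 7, 9, 5, 2, 7, 9, 4, 8, 5, 7, 14, 7, 6, 3, 1, 3, 9, 7, 6, 7, 14, 7, 6, 3, 7, 4, 5, 8, 13, 8, 5, 8, 10, 4, 2, 4, 5, 8, 13, 8, 6, 7, 3, 10, 8, 1, 6, 10, 8, 1, 6, 10, 8, 1, 6, 7, 10, 5, 2, 8], 1), ([1, 6, 9, 8, 5, 2, 7, 9, 5, 2, 7, 9, 5, 2, 7, 9, 4, 8, 5, 7, 14, 7, 6, 3, 1, 3, 9, 7, 6, 7, 14, 7, 6, 3, 9, 4, 5, 8, 13, 8, 5, 8, 10, 4, 2, 4, 5, 8, 13, 8, 6, 7, 3, 10, 8, 1, 6, 10, 8, 1, 6, 10, 8, 1, 6, 7, 10, 5, 2, 10], 1), ([1, 6, 9, 8, 5, 2, 7, 9, 5, 2, 7, 9, 5, 2, 7, 9, 4, 8, 5, 7, 14, 7, 6, 3, 1, 3, 9, 7, 6, 7, 14, 7, 6,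 3, 11, 4, 5, 8, 13, 8, 5, 8, 10, 4, 2, 4, 5, 8, 13, 8, 6, 7, 3, 10, 8, 1, 6, 10, 8, 1, 6, 10, 8, 1, 6, 7, 10, 5, 2, 12], 1), ([1, 6, 9, 8, 5, 2, 7, 9, 5, 2, 7, 9, 5, 2, 7, 9, 4, 8, 5, 7, 14, 7, 6, 3, 1, 3, 9, 7, 6, 7, 14, 7, 6, 3, 13, 4, 5, 8, 13, 8, 5, 8, 10, 4, 2, 4, 5, 8, 13, 8, 6, 7, 3, 10, 8, 1, 6, 10, 8, 1, 6, 10, 8, 1, 6, 7, 10, 5, 2, 14], 1)]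

end Cfsg.Agent.MLin.Co3
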