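import Cfsg.Agent.MLin.CrossMax

/-!
The stabiliser of the standard cross is maximal: the lower levels (owner: helper7).
-/
set_option autoImplicit false
set_option maxRecDepth 100000

namespace Cfsg.Agent.MLin.Cross

open Cfsg Cfsg.Agent Cfsg.Agent.Leech Cfsg.Agent.PermTab Cfsg.Agent.CosetEnum Cfsg.Agent.MulX Cfsg.Agent.MLin
  Cfsg.Agent.MLin.Lat MulAction

/-! ### numerical facts -/

theorem nf_w0 : sqNorm (ivv w0C) = 32 ∧ dotInt (ivv uC) (ivv w0C) = 16 ∧ M4 (ivv w0C) = 512 := by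
  unfold M4; decide +kernel

theorem nf_w1 : sqNorm (ivv w1C) = 32 ∧ dotInt (ivv uC) (ivv w1C) = 16 ∧ M4 (ivv w1C) = 104 := by
  unfold M4; decide +kernel

theorem nf_w2 : sqNorm (ivv w2C) = 32 ∧ dotInt (ivv uC) (ivv w2C) = 16 ∧ M4 (ivv w2C) = 128 := by
  unfold M4; decide +kernel

theorem nf_x0 : sqNorm (ivv x0C) = 32 ∧ dotInt (ivv uC) (ivv x0C) = 16 ∧ dotInt (ivv w0C) (ivv x0C) = 16 ∧
    dotInt (ivv x0C) (ivv x0C) = 32 := by
  decide +kernel

theorem nf_y1 : sqNorm (ivv y1C) = 32 ∧ dotInt (ivv uC) (ivv y1C) = 16 ∧ dotInt (ivv w0C) (ivv y1C) = 16 ∧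
    dotInt (ivv x0C) (ivv y1C) = 0 := by
  decide +kernel

theorem nf_y2 : sqNorm (ivv y2C) = 32 ∧ dotInt (ivv uC) (ivv y2C) = 16 ∧ dotInt (ivv w0C) (ivv y2C) = 16 ∧
    dotInt (ivv x0C) (ivv y2C) = 8 := by
  decide +kernel

theorem nf_y3 : sqNorm (ivv y3C) = 32 ∧ dotInt (ivv uC) (ivv y3C) = 16 ∧ dotInt (ivv w0C) (ivv y3C) = 16 ∧
    dotInt (ivv x0C) (ivv y3C) = 16 := by
  decide +kernel

theorem x0_eq : ivv x0C = ivv uC + ivv w0C - Pi.single none 8 := by
  funext i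
  revert i
  decide +kernel

/-- weights of the census -/
def W2 : List (ℕ × ℕ) := [(4, 18446744073709551612), (512, 18446744073709551104), (0, 0), (0, 0), (0, 0), (0, 0), (0, 0), (0, 0), (0, 0), (0, 0), (0, 0), (0, 0), (0, 0), (0, 0), (0, 0), (0, 0), (0, 0), (0, 0), (0, 0), (0, 0), (0, 0), (0, 0), (0, 0), (516, 18446744073709551100)]

theorem census2 : {x : GolayPt → ℤ | x ∈ leechLattice ∧ sqNorm x = 32 ∧ dotInt (ivv uC) x = 16 ∧
    dotInt (ivv w0C) x = 16 ∧ dotInt 0 x = 0}.ncard = 891 :=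
  count_dots3 (W := W2) (T := 2064) (by decide +kernel) (by decide) (by decide +kernel) (by decide) (by decide +kernel)

theorem T2_card : (T3 u w0 16 16).ncard = 891 := T3_count u w0 16 16 codeU rfl census2

/-- the second level -/
def T1 : Set leechLattice := {x | sqNorm (x : GolayPt → ℤ) = 32 ∧ dotInt (u : GolayPt → ℤ) (x : GolayPt → ℤ) = 16}

theorem T1_finite : T1.Finite := min_finite.subset fun _ h => h.1

theorem neg_norm (x : leechLattice) : sqNorm ((-x : leechLattice) : GolayPt → ℤ) = sqNorm (x : GolayPt → ℤ) := by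
  rw [AddSubgroup.coe_neg]
  unfold sqNorm
  simp

theorem neg_dot (x y : leechLattice) : dotInt ((-x : leechLattice) : GolayPt → ℤ) (y : GolayPt → ℤ) =
    -dotInt (x : GolayPt → ℤ) (y : GolayPt → ℤ) := by
  rw [AddSubgroup.coe_neg]
  unfold dotInt
  simp

theorem T1_card : T1.ncard = 4600 := by
  rw [← census32_m16 (-u) (by rw [neg_norm]; exact norm_leechU)]
  unfold T1
  congr 1
  ext x
  show _ ∧ _ ↔ _ ∧ _
  rw [neg_dot]
  constructor
  · rintro ⟨h1, h2⟩; exact ⟨h1, by omega⟩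
  · rintro ⟨h1, h2⟩; exact ⟨h1, by omega⟩

/-! ### the groups -/

/-- the stabiliser of `u` in the monomial group -/
def Su : Subgroup Co0 := crossStab ⊓ stabilizer Co0 u

/-- the stabiliser of `u`, `w0` in the monomial group -/
def Sw : Subgroup Co0 := crossStab ⊓ stabilizer Co0 u ⊓ stabilizer Co0 w0

theorem maps_fix {g : Co0} {c : ℕ} {v : leechLattice} (hv : (v : GolayPt → ℤ) = ivv c) (h : Maps g c c) :
    g ∈ stabilizer Co0 v := by
  rw [mem_stabilizer_iff]
  exact Subtype.ext ((h v hv).trans hv.symm)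

theorem gu_mem : ∀ s ∈ gu, ∃ g ∈ Su, IsSt s.1 s.2 g := fun s hs => by
  obtain ⟨g, hg, hst, hf⟩ := fx_spec gu_ok s hs
  exact ⟨g, ⟨hg, maps_fix codeU (hf uC List.mem_cons_self)⟩, hst⟩

theorem gw_mem : ∀ s ∈ gw, ∃ g ∈ Sw, IsSt s.1 s.2 g := fun s hs => by
  obtain ⟨g, hg, hst, hf⟩ := fx_spec gw_ok s hs
  exact ⟨g, ⟨⟨hg, maps_fix codeU (hf uC List.mem_cons_self)⟩,
    maps_fix rfl (hf w0C (List.mem_cons_of_mem _ List.mem_cons_self))⟩, hst⟩

/-- dot product with `8 e_i` -/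
theorem dot_e8 (f : leechLattice) (i : GolayPt) : dotInt (f : GolayPt → ℤ) (e8 i : GolayPt → ℤ) = 8 * (f : GolayPt → ℤ) i := by
  have := dot_single (f : GolayPt → ℤ) i 8
  rw [← this]; rfl

theorem fix_none {g : Co0} (hg : g ∈ Sw) : g • e8 none = e8 none := by
  obtain ⟨⟨h1, h2⟩, h3⟩ := hg
  have h2' : g • u = u := h2
  have h3' : g • w0 = w0 := h3
  have h4 := (mem_crossStab_iff g).1 h1 (e8 none) ((mem_stdCross_iff _).2 ⟨none, Or.inl rfl⟩)
  rw [mem_stdCross_iff] at h4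
  obtain ⟨i, hi⟩ := h4
  have d1 : dotInt (u : GolayPt → ℤ) ((g • e8 none : leechLattice) : GolayPt → ℤ) = 32 := by
    have := co0_dot g u (e8 none)
    rw [h2'] at this
    rw [this, dot_e8]
    decide +kernel
  have d2 : dotInt (w0 : GolayPt → ℤ) ((g • e8 none : leechLattice) : GolayPt → ℤ) = 32 := by
    have := co0_dot g w0 (e8 none)
    rw [h3'] at this
    rw [this, dot_e8]
    decide +kernel
  have nd : ∀ f : leechLattice, dotInt (f : GolayPt → ℤ) ((-e8 i : leechLattice) : GolayPt → ℤ) = -(8 * (f : GolayPt → ℤ) i) := by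
    intro f
    rw [← dot_e8, AddSubgroup.coe_neg]
    unfold dotInt
    simp
  have key : ∀ i : GolayPt, (ivv uC) i = 4 → (ivv w0C) i = 4 → i = none := by decide +kernel
  have key2 : ∀ i : GolayPt, (ivv uC) i ≠ -4 := by decide +kernel
  rcases hi with h | h
  · rw [h, dot_e8] at d1 d2
    rw [codeU] at d1
    have d2' : 8 * (ivv w0C) i = 32 := d2
    rw [h, key i (by omega) (by omega)]
  · exfalso
    rw [h, nd, codeU] at d1
    exact key2 i (by omega)

theorem coe_x0 : x0 = u + w0 - e8 none := by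
  apply Subtype.ext
  show ivv x0C = (u : GolayPt → ℤ) + ivv w0C - Pi.single none 8
  rw [codeU]
  exact x0_eq

theorem Sw_x0 : Sw ≤ stabilizer Co0 x0 := by
  intro g hg
  rw [mem_stabilizer_iff, coe_x0, co0_sub, co0_add, fix_none hg]
  rw [show g • u = u from hg.1.2, show g • w0 = w0 from hg.2]

/-! ### unions of orbits -/

theorem cl {S K : Subgroup Co0} (h : S ≤ K) {x y z : leechLattice} (hy : y ∈ orbit S z) :
    y ∈ orbit K x ↔ z ∈ orbit K x := by
  obtain ⟨g, rfl⟩ := hy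
  constructor
  · intro h1
    have := orbit_mem_smul h1 (K.inv_mem (h g.2))
    rwa [show ((g : Co0)⁻¹ • (g • z) : leechLattice) = z from inv_smul_smul (g : Co0) z] at this
  · intro h1
    exact orbit_mem_smul h1 (h g.2)

theorem norm_of_mem {S : Subgroup Co0} {x y : leechLattice} (hx : sqNorm (x : GolayPt → ℤ) = 32) (hy : y ∈ orbit S x) :
    sqNorm (y : GolayPt → ℤ) = 32 := orbit_subset_min hx hy

theorem lvl0 {K : Subgroup Co0} (hK : crossStab ≤ K) :
    ∃ b1 b2 : Bool, (orbit K u).ncard = 1104 + cond b1 98304 0 + cond b2 97152 0 := by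
  classical
  refine ⟨decide (oV ∈ orbit K u), decide (tO ∈ orbit K u), ?_⟩
  have h := union_card (T := Min) Min_finite (O := ![orbit crossStab u, orbit crossStab oV, orbit crossStab tO])
    (n := ![1104, 98304, 97152]) (f := fun y => M4 (y : GolayPt → ℤ)) (t := ![512, 104, 128]) (by decide)
    (by
      intro i
      fin_cases i
      · exact orbit_subset_min norm_leechU
      · exact orbit_subset_min norm_oV
      · exact orbit_subset_min norm_tO)
    (by
      intro i y hy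
      fin_cases i
      · exact (M4_orbit le_rfl hy).trans M4_u
      · exact (M4_orbit le_rfl hy).trans M4_oV
      · exact (M4_orbit le_rfl hy).trans M4_tO)
    (by
      intro i
      fin_cases i
      · exact card_E4
      · exact card_odd
      · exact card_oct)
    (by
      intro y hy
      rcases tri y hy with ⟨h1, -, -⟩ | ⟨h1, -, -⟩ | ⟨h1, -, -⟩
      · exact ⟨0, mem_of_smul h1⟩
      · exact ⟨1, mem_of_smul h1⟩
      · exact ⟨2, mem_of_smul h1⟩)
    (P := orbit K u) (orbit_subset_min norm_leechU)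
    ![true, decide (oV ∈ orbit K u), decide (tO ∈ orbit K u)]
    (by
      intro i y hy
      fin_cases i
      · rw [cl hK hy]
        exact ⟨fun _ => rfl, fun _ => mem_orbit_self u⟩
      · rw [cl hK hy]
        exact decide_eq_true_iff.symm
      · rw [cl hK hy]
        exact decide_eq_true_iff.symm)
  rw [h, Fin.sum_univ_three]
  rfl

theorem Su_le_u : Su ≤ stabilizer Co0 u := inf_le_right

theorem orbit_T1 {S : Subgroup Co0} (h : S ≤ stabilizer Co0 u) {x : leechLattice} (hx : x ∈ T1) : orbit S x ⊆ T1 := by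
  intro y hy
  exact ⟨orbit_subset_min hx.1 hy, (orbit_dot h hy).trans hx.2⟩

theorem w0_T1 : w0 ∈ T1 := ⟨nf_w0.1, by rw [codeU]; exact nf_w0.2.1⟩

theorem w1_T1 : w1 ∈ T1 := ⟨nf_w1.1, by rw [codeU]; exact nf_w1.2.1⟩

theorem w2_T1 : w2 ∈ T1 := ⟨nf_w2.1, by rw [codeU]; exact nf_w2.2.1⟩

/-- the orbits of the second level -/
def O1 : Fin 3 → Set leechLattice := ![orbit Su w0, orbit Su w1, orbit Su w2]

theorem O1_sub : ∀ i, O1 i ⊆ T1 := by
  intro i
  fin_cases i
  · exact orbit_T1 Su_le_u w0_T1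
  · exact orbit_T1 Su_le_u w1_T1
  · exact orbit_T1 Su_le_u w2_T1

theorem O1_f : ∀ i, ∀ y ∈ O1 i, M4 (y : GolayPt → ℤ) = (![512, 104, 128] : Fin 3 → ℤ) i := by
  intro i y hy
  fin_cases i
  · exact (M4_orbit inf_le_left hy).trans nf_w0.2.2
  · exact (M4_orbit inf_le_left hy).trans nf_w1.2.2
  · exact (M4_orbit inf_le_left hy).trans nf_w2.2.2

theorem part1 : (∀ i, (O1 i).ncard = (![88, 2048, 2464] : Fin 3 → ℕ) i) ∧ ∀ y ∈ T1, ∃ i, y ∈ O1 i :=
  partition T1 T1_finite O1 ![88, 2048, 2464] (fun y => M4 (y : GolayPt → ℤ)) ![512, 104, 128] (by decide) O1_sub O1_f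
    (by
      intro i
      fin_cases i
      · exact orbit_geS rfl gu_mem w0_orb (by norm_num) w0_inc (orbit_fin nf_w0.1)
      · exact orbit_geS rfl gu_mem w1_orb (by norm_num) w1_inc (orbit_fin nf_w1.1)
      · exact orbit_geS rfl gu_mem w2_orb (by norm_num) w2_inc (orbit_fin nf_w2.1))
    (by rw [T1_card, Fin.sum_univ_three]; rfl)

theorem lvl1 {K : Subgroup Co0} (hK : crossStab ≤ K) :
    ∃ b1 b2 : Bool, (orbit (K ⊓ stabilizer Co0 u : Subgroup Co0) w0).ncard = 88 + cond b1 2048 0 + cond b2 2464 0 := by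
  classical
  set L : Subgroup Co0 := K ⊓ stabilizer Co0 u with hL
  have hSL : Su ≤ L := inf_le_inf_right _ hK
  refine ⟨decide (w1 ∈ orbit L w0), decide (w2 ∈ orbit L w0), ?_⟩
  have h := union_card (T := T1) T1_finite (O := O1)
    (n := ![88, 2048, 2464]) (f := fun y => M4 (y : GolayPt → ℤ)) (t := ![512, 104, 128]) (by decide)
    O1_sub O1_f part1.1 part1.2
    (P := orbit L w0) (orbit_T1 inf_le_right w0_T1)
    ![true, decide (w1 ∈ orbit L w0), decide (w2 ∈ orbit L w0)]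
    (by
      intro i y hy
      fin_cases i
      · have hy' : y ∈ orbit Su w0 := hy
        rw [cl hSL hy']
        exact ⟨fun _ => rfl, fun _ => mem_orbit_self w0⟩
      · have hy' : y ∈ orbit Su w1 := hy
        rw [cl hSL hy']
        exact decide_eq_true_iff.symm
      · have hy' : y ∈ orbit Su w2 := hy
        rw [cl hSL hy']
        exact decide_eq_true_iff.symm)
  rw [h, Fin.sum_univ_three]
  rfl

theorem T2_iff (x : leechLattice) : x ∈ T3 u w0 16 16 ↔ sqNorm (x : GolayPt → ℤ) = 32 ∧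
    dotInt (ivv uC) (x : GolayPt → ℤ) = 16 ∧ dotInt (ivv w0C) (x : GolayPt → ℤ) = 16 := by
  rw [← codeU]; exact Iff.rfl

theorem x0_T2 : x0 ∈ T3 u w0 16 16 := (T2_iff _).2 ⟨nf_x0.1, nf_x0.2.1, nf_x0.2.2.1⟩

theorem y1_T2 : y1 ∈ T3 u w0 16 16 := (T2_iff _).2 ⟨nf_y1.1, nf_y1.2.1, nf_y1.2.2.1⟩

theorem y2_T2 : y2 ∈ T3 u w0 16 16 := (T2_iff _).2 ⟨nf_y2.1, nf_y2.2.1, nf_y2.2.2.1⟩

theorem y3_T2 : y3 ∈ T3 u w0 16 16 := (T2_iff _).2 ⟨nf_y3.1, nf_y3.2.1, nf_y3.2.2.1⟩

/-- the orbits of the third level -/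
def O2 : Fin 4 → Set leechLattice := ![orbit Sw x0, orbit Sw y1, orbit Sw y2, orbit Sw y3]

theorem Sw_u : Sw ≤ stabilizer Co0 u := fun _ h => h.1.2

theorem Sw_w : Sw ≤ stabilizer Co0 w0 := fun _ h => h.2

theorem O2_sub : ∀ i, O2 i ⊆ T3 u w0 16 16 := by
  intro i
  fin_cases i
  · exact orbit_subset_T3 x0_T2 Sw_u Sw_w
  · exact orbit_subset_T3 y1_T2 Sw_u Sw_w
  · exact orbit_subset_T3 y2_T2 Sw_u Sw_w
  · exact orbit_subset_T3 y3_T2 Sw_u Sw_w

theorem O2_f : ∀ i, ∀ y ∈ O2 i, dotInt (x0 : GolayPt → ℤ) (y : GolayPt → ℤ) = (![32, 0, 8, 16] : Fin 4 → ℤ) i := by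
  intro i y hy
  fin_cases i
  · exact (orbit_dot Sw_x0 hy).trans nf_x0.2.2.2
  · exact (orbit_dot Sw_x0 hy).trans nf_y1.2.2.2
  · exact (orbit_dot Sw_x0 hy).trans nf_y2.2.2.2
  · exact (orbit_dot Sw_x0 hy).trans nf_y3.2.2.2

theorem part2 : (∀ i, (O2 i).ncard = (![1, 42, 512, 336] : Fin 4 → ℕ) i) ∧ ∀ y ∈ T3 u w0 16 16, ∃ i, y ∈ O2 i :=
  partition (T3 u w0 16 16) (T3_finite _ _ _ _) O2 ![1, 42, 512, 336]
    (fun y => dotInt (x0 : GolayPt → ℤ) (y : GolayPt → ℤ)) ![32, 0, 8, 16] (by decide) O2_sub O2_f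
    (by
      intro i
      fin_cases i
      · show 1 ≤ (orbit Sw x0).ncard
        rw [Nat.one_le_iff_ne_zero, Ne, Set.ncard_eq_zero (orbit_fin nf_x0.1)]
        exact (nonempty_orbit _).ne_empty
      · exact orbit_geS rfl gw_mem y1_orb (by norm_num) y1_inc (orbit_fin nf_y1.1)
      · exact orbit_geS rfl gw_mem y2_orb (by norm_num) y2_inc (orbit_fin nf_y2.1)
      · exact orbit_geS rfl gw_mem y3_orb (by norm_num) y3_inc (orbit_fin nf_y3.1))
    (by rw [T2_card, Fin.sum_univ_four]; rfl)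

theorem lvl2 {K : Subgroup Co0} (hK : crossStab ≤ K) :
    ∃ b1 b2 b3 : Bool, (orbit (K ⊓ stabilizer Co0 u ⊓ stabilizer Co0 w0 : Subgroup Co0) x0).ncard =
      1 + cond b1 42 0 + cond b2 512 0 + cond b3 336 0 := by
  classical
  set L : Subgroup Co0 := K ⊓ stabilizer Co0 u ⊓ stabilizer Co0 w0 with hL
  have hSL : Sw ≤ L := inf_le_inf_right _ (inf_le_inf_right _ hK)
  have hLu : L ≤ stabilizer Co0 u := fun _ h => h.1.2
  have hLw : L ≤ stabilizer Co0 w0 := fun _ h => h.2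
  refine ⟨decide (y1 ∈ orbit L x0), decide (y2 ∈ orbit L x0), decide (y3 ∈ orbit L x0), ?_⟩
  have h := union_card (T := T3 u w0 16 16) (T3_finite _ _ _ _) (O := O2)
    (n := ![1, 42, 512, 336]) (f := fun y => dotInt (x0 : GolayPt → ℤ) (y : GolayPt → ℤ)) (t := ![32, 0, 8, 16]) (by decide)
    O2_sub O2_f part2.1 part2.2
    (P := orbit L x0) (orbit_subset_T3 x0_T2 hLu hLw)
    ![true, decide (y1 ∈ orbit L x0), decide (y2 ∈ orbit L x0), decide (y3 ∈ orbit L x0)]
    (by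
      intro i y hy
      fin_cases i
      · have hy' : y ∈ orbit Sw x0 := hy
        rw [cl hSL hy']
        exact ⟨fun _ => rfl, fun _ => mem_orbit_self x0⟩
      · have hy' : y ∈ orbit Sw y1 := hy
        rw [cl hSL hy']
        exact decide_eq_true_iff.symm
      · have hy' : y ∈ orbit Sw y2 := hy
        rw [cl hSL hy']
        exact decide_eq_true_iff.symm
      · have hy' : y ∈ orbit Sw y3 := hy
        rw [cl hSL hy']
        exact decide_eq_true_iff.symm)
  rw [h, Fin.sum_univ_four]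
  rfl

end Cfsg.Agent.MLin.Cross
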