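import Cfsg.Agent.MulX.Tab

/-! Relators (generated data, owner: helper7). -/

set_option autoImplicit false

namespace Cfsg.Agent.MLin.McL

/-- exact relators -/
def R1 : List (ℕ × List ℕ) := [(1, [1, 1, 3, 6, 3, 2, 4, 5, 4]), (3, [3, 3, 1, 6, 1, 4, 2, 5, 2]), (5, [5, 5, 1, 4, 1, 6, 2, 3, 2]), (7, [7, 7, 5, 7, 6, 8, 5, 8, 6, 7, 5, 8, 6]), (9, [9, 4, 10, 4, 9, 4]), (11, [4, 11, 4, 12, 4, 11])]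

/-- central relators -/
def R2 : List (List ℕ) := [[1, 1, 1], [5, 5, 5], [7, 7, 7], [1, 3, 1, 3], [1, 5, 1, 5], [3, 5, 3, 5], [7, 1, 8, 2], [7, 3, 8, 4], [5, 7, 5, 7, 5, 7, 5, 7, 5, 7], [7, 6, 7, 6, 7, 6, 7, 6, 7, 6], [9, 9], [9, 4, 8, 10, 7, 3], [9, 1, 6, 1, 4, 10, 3, 2, 5, 2], [11, 9, 11, 9], [11, 4, 1, 6, 1, 11, 2, 5, 2, 9, 3], [11, 4, 1, 9, 6, 8, 3, 11, 6, 9, 7, 5, 9], [8, 11, 7, 11], [2, 3, 11, 2, 3, 11, 2, 3, 11], [2, 11, 4, 2, 11, 1, 3, 11, 4], [1, 4, 1, 5, 9, 2, 6, 4, 1, 9, 6, 2, 3, 2, 5, 10, 2, 3, 5, 1, 10, 6], [1, 4, 1, 11, 2, 11, 2, 9, 1, 11, 1, 11, 2, 3, 2, 12, 2, 12, 2, 10, 1, 12, 1, 12], [5, 9, 2, 6, 4, 1, 9, 6, 11, 2, 11, 2, 9, 1, 11, 1, 11, 5, 10,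 2, 3, 5, 1, 10, 6, 12, 2, 12, 2, 10, 1, 12, 1, 12, 4, 2], [5, 7, 6, 3, 11, 7, 9, 8, 12, 4, 5, 8, 6, 7, 5, 10, 6, 8], [5, 7, 6, 3, 11, 7, 6, 8, 4, 11, 9, 5, 4, 9, 7, 5, 8, 12, 4, 5, 8, 6, 10, 3, 6, 10, 12, 3], [7, 5, 9, 6, 8, 4, 11, 9, 5, 4, 9, 7, 5, 10, 6, 8, 10, 3, 6, 10, 12, 3, 10, 8, 1, 6], [8, 9, 5, 2, 3, 11, 6, 8, 8, 9, 5, 2, 3, 11, 6, 8, 10, 8, 1, 6], [1, 6, 9, 8, 5, 2, 7, 9, 7, 5, 8, 12, 4, 5, 8, 6, 7, 5, 12, 4, 1, 6, 10, 7]]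

/-- inverse letters -/
def iv : List (ℕ × ℕ) := [(1, 2), (3, 4), (5, 6), (7, 8), (9, 10), (11, 12)]

/-- relations of the covering group -/
def RL : List (List ℕ × ℕ) := [([1, 1, 3, 6, 3, 2, 4, 5, 4], 1), ([3, 3, 1, 6, 1, 4, 2, 5, 2], 1), ([5, 5, 1, 4, 1, 6, 2, 3, 2], 1), ([7, 7, 5, 7, 6, 8, 5, 8, 6, 7, 5, 8, 6], 1), ([9, 4, 10, 4, 9, 4], 1), ([4, 11, 4, 12, 4, 11], 1), ([1, 1, 1, 3, 2, 2, 2, 4], 1), ([1, 1, 1, 5, 2, 2, 2, 6], 1), ([1, 1, 1, 7, 2, 2, 2, 8], 1), ([1, 1, 1, 9, 2, 2, 2, 10], 1), ([1, 1, 1, 11, 2, 2, 2, 12], 1), ([5, 5, 5, 1, 6, 6, 6, 2], 1), ([5, 5, 5, 3, 6, 6, 6, 4], 1), ([5, 5, 5, 7, 6, 6, 6, 8], 1), ([5, 5, 5, 9, 6, 6, 6, 10], 1), ([5, 5, 5, 11,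 6, 6, 6, 12], 1), ([7, 7, 7, 1, 8, 8, 8, 2], 1), ([7, 7, 7, 3, 8, 8, 8, 4], 1), ([7, 7, 7, 5, 8, 8, 8, 6], 1), ([7, 7, 7, 9, 8, 8, 8, 10], 1), ([7, 7, 7, 11, 8, 8, 8, 12], 1), ([1, 3, 1, 3, 1, 4, 2, 4, 2, 2], 1), ([1, 3, 1, 3, 2, 4, 2, 4], 1), ([1, 3, 1, 3, 5, 4, 2, 4, 2, 6], 1), ([1, 3, 1, 3, 7, 4, 2, 4, 2, 8], 1), ([1, 3, 1, 3, 9, 4, 2, 4, 2, 10], 1), ([1, 3, 1, 3, 11, 4, 2, 4, 2, 12], 1), ([1, 5, 1, 5, 1, 6, 2, 6, 2, 2], 1), ([1, 5, 1, 5, 3, 6, 2, 6, 2, 4], 1), ([1, 5, 1, 5, 2, 6, 2, 6], 1), ([1, 5, 1, 5, 7, 6, 2, 6, 2, 8], 1), ([1, 5, 1, 5, 9, 6, 2, 6, 2, 10], 1), ([1, 5, 1, 5, 11, 6, 2, 6, 2, 12], 1), ([3, 5, 3, 5, 1, 6, 4, 6, 4, 2], 1), ([3, 5, 3, 5, 3, 6,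 4, 6, 4, 4], 1), ([3, 5, 3, 5, 4, 6, 4, 6], 1), ([3, 5, 3, 5, 7, 6, 4, 6, 4, 8], 1), ([3, 5, 3, 5, 9, 6, 4, 6, 4, 10], 1), ([3, 5, 3, 5, 11, 6, 4, 6, 4, 12], 1), ([7, 1, 8, 1, 7, 2, 8, 2], 1), ([7, 1, 8, 2, 3, 1, 7, 2, 8, 4], 1), ([7, 1, 8, 2, 5, 1, 7, 2, 8, 6], 1), ([7, 1, 8, 2, 7, 1, 7, 2, 8, 8], 1), ([7, 1, 8, 2, 9, 1, 7, 2, 8, 10], 1), ([7, 1, 8, 2, 11, 1, 7, 2, 8, 12], 1), ([7, 3, 8, 4, 1, 3, 7, 4, 8, 2], 1), ([7, 3, 8, 3, 7, 4, 8, 4], 1), ([7, 3, 8, 4, 5, 3, 7, 4, 8, 6], 1), ([7, 3, 8, 4, 7, 3, 7, 4, 8, 8], 1), ([7, 3, 8, 4, 9, 3, 7, 4, 8, 10], 1), ([7, 3, 8, 4, 11, 3, 7, 4, 8, 12], 1), ([5, 7, 5, 7, 5, 7, 5, 7, 5, 7, 1, 8, 6, 8, 6, 8, 6, 8, 6, 8, 6, 2], 1),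 ([5, 7, 5, 7, 5, 7, 5, 7, 5, 7, 3, 8, 6, 8, 6, 8, 6, 8, 6, 8, 6, 4], 1), ([5, 7, 5, 7, 5, 7, 5, 7, 5, 7, 5, 8, 6, 8, 6, 8, 6, 8, 6, 8, 6, 6], 1), ([5, 7, 5, 7, 5, 7, 5, 7, 5, 7, 6, 8, 6, 8, 6, 8, 6, 8, 6, 8], 1), ([5, 7, 5, 7, 5, 7, 5, 7, 5, 7, 9, 8, 6, 8, 6, 8, 6, 8, 6, 8, 6, 10], 1), ([5, 7, 5, 7, 5, 7, 5, 7, 5, 7, 11, 8, 6, 8, 6, 8, 6, 8, 6, 8, 6, 12], 1), ([7, 6, 7, 6, 7, 6, 7, 6, 7, 6, 1, 5, 8, 5, 8, 5, 8, 5, 8, 5, 8, 2], 1), ([7, 6, 7, 6, 7, 6, 7, 6, 7, 6, 3, 5, 8, 5, 8, 5, 8, 5, 8, 5, 8, 4], 1), ([7, 6, 7, 6, 7, 6, 7, 6, 7, 5, 8, 5, 8, 5, 8, 5, 8, 5, 8, 6], 1), ([7, 6, 7, 6, 7, 6, 7, 6, 7, 6, 7, 5, 8, 5, 8, 5, 8, 5, 8, 5, 8, 8], 1), ([7, 6, 7, 6, 7, 6, 7,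 6, 7, 6, 9, 5, 8, 5, 8, 5, 8, 5, 8, 5, 8, 10], 1), ([7, 6, 7, 6, 7, 6, 7, 6, 7, 6, 11, 5, 8, 5, 8, 5, 8, 5, 8, 5, 8, 12], 1), ([9, 9, 1, 10, 10, 2], 1), ([9, 9, 3, 10, 10, 4], 1), ([9, 9, 5, 10, 10, 6], 1), ([9, 9, 7, 10, 10, 8], 1), ([9, 9, 11, 10, 10, 12], 1), ([9, 4, 8, 10, 7, 3, 1, 4, 8, 9, 7, 3, 10, 2], 1), ([9, 4, 8, 10, 7, 3, 8, 9, 7, 3, 10, 4], 1), ([9, 4, 8, 10, 7, 3, 5, 4, 8, 9, 7, 3, 10, 6], 1), ([9, 4, 8, 10, 7, 3, 7, 4, 8, 9, 7, 3, 10, 8], 1), ([9, 4, 8, 10, 7, 3, 9, 4, 8, 9, 7, 3, 10, 10], 1), ([9, 4, 8, 10, 7, 3, 11, 4, 8, 9, 7, 3, 10, 12], 1), ([9, 1, 6, 1, 4, 10, 3, 2, 5, 1, 6, 1, 4, 9, 3, 2, 5, 2, 10, 2], 1), ([9, 1, 6, 1, 4, 10, 3, 2, 5, 2, 3,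 1, 6, 1, 4, 9, 3, 2, 5, 2, 10, 4], 1), ([9, 1, 6, 1, 4, 10, 3, 2, 5, 2, 5, 1, 6, 1, 4, 9, 3, 2, 5, 2, 10, 6], 1), ([9, 1, 6, 1, 4, 10, 3, 2, 5, 2, 7, 1, 6, 1, 4, 9, 3, 2, 5, 2, 10, 8], 1), ([9, 1, 6, 1, 4, 10, 3, 2, 5, 2, 9, 1, 6, 1, 4, 9, 3, 2, 5, 2, 10, 10], 1), ([9, 1, 6, 1, 4, 10, 3, 2, 5, 2, 11, 1, 6, 1, 4, 9, 3, 2, 5, 2, 10, 12], 1), ([11, 9, 11, 9, 1, 10, 12, 10, 12, 2], 1), ([11, 9, 11, 9, 3, 10, 12, 10, 12, 4], 1), ([11, 9, 11, 9, 5, 10, 12, 10, 12, 6], 1), ([11, 9, 11, 9, 7, 10, 12, 10, 12, 8], 1), ([11, 9, 11, 9, 12, 10, 12, 10], 1), ([11, 9, 11, 9, 11, 10, 12, 10, 12, 12], 1), ([11, 4, 1, 6, 1, 11, 2, 5, 2, 9, 3, 1, 4, 10, 1, 6, 1, 12, 2, 5, 2, 3, 12,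 2], 1), ([11, 4, 1, 6, 1, 11, 2, 5, 2, 9, 3, 10, 1, 6, 1, 12, 2, 5, 2, 3, 12, 4], 1), ([11, 4, 1, 6, 1, 11, 2, 5, 2, 9, 3, 5, 4, 10, 1, 6, 1, 12, 2, 5, 2, 3, 12, 6], 1), ([11, 4, 1, 6, 1, 11, 2, 5, 2, 9, 3, 7, 4, 10, 1, 6, 1, 12, 2, 5, 2, 3, 12, 8], 1), ([11, 4, 1, 6, 1, 11, 2, 5, 2, 9, 3, 9, 4, 10, 1, 6, 1, 12, 2, 5, 2, 3, 12, 10], 1), ([11, 4, 1, 6, 1, 11, 2, 5, 2, 9, 3, 11, 4, 10, 1, 6, 1, 12, 2, 5, 2, 3, 12, 12], 1), ([11, 4, 1, 9, 6, 8, 3, 11, 6, 9, 7, 5, 9, 1, 10, 6, 8, 10, 5, 12, 4, 7, 5, 10, 2, 3, 12, 2], 1), ([11, 4, 1, 9, 6, 8, 3, 11, 6, 9, 7, 5, 9, 3, 10, 6, 8, 10, 5, 12, 4, 7, 5, 10, 2, 3, 12, 4], 1), ([11, 4, 1, 9, 6, 8, 3, 11, 6, 9, 7, 5, 9, 5, 10,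 6, 8, 10, 5, 12, 4, 7, 5, 10, 2, 3, 12, 6], 1), ([11, 4, 1, 9, 6, 8, 3, 11, 6, 9, 7, 5, 9, 7, 10, 6, 8, 10, 5, 12, 4, 7, 5, 10, 2, 3, 12, 8], 1), ([11, 4, 1, 9, 6, 8, 3, 11, 6, 9, 7, 5, 9, 6, 8, 10, 5, 12, 4, 7, 5, 10, 2, 3, 12, 10], 1), ([11, 4, 1, 9, 6, 8, 3, 11, 6, 9, 7, 5, 9, 11, 10, 6, 8, 10, 5, 12, 4, 7, 5, 10, 2, 3, 12, 12], 1), ([8, 11, 7, 11, 1, 12, 8, 12, 7, 2], 1), ([8, 11, 7, 11, 3, 12, 8, 12, 7, 4], 1), ([8, 11, 7, 11, 5, 12, 8, 12, 7, 6], 1), ([8, 11, 7, 11, 7, 12, 8, 12], 1), ([8, 11, 7, 11, 9, 12, 8, 12, 7, 10], 1), ([8, 11, 7, 11, 8, 12, 7, 12], 1), ([2, 3, 11, 2, 3, 11, 2, 3, 11, 1, 12, 4, 1, 12, 4, 1, 12, 4], 1), ([2, 3, 11, 2, 3, 11, 2, 3, 11,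 3, 12, 4, 1, 12, 4, 1, 12, 4, 1, 4], 1), ([2, 3, 11, 2, 3, 11, 2, 3, 11, 5, 12, 4, 1, 12, 4, 1, 12, 4, 1, 6], 1), ([2, 3, 11, 2, 3, 11, 2, 3, 11, 7, 12, 4, 1, 12, 4, 1, 12, 4, 1, 8], 1), ([2, 3, 11, 2, 3, 11, 2, 3, 11, 9, 12, 4, 1, 12, 4, 1, 12, 4, 1, 10], 1), ([2, 3, 11, 2, 3, 11, 2, 3, 11, 4, 1, 12, 4, 1, 12, 4, 1, 12], 1), ([2, 11, 4, 2, 11, 1, 3, 11, 4, 1, 3, 12, 4, 2, 12, 1, 3, 12], 1), ([2, 11, 4, 2, 11, 1, 3, 11, 3, 12, 4, 2, 12, 1, 3, 12, 1, 4], 1), ([2, 11, 4, 2, 11, 1, 3, 11, 4, 5, 3, 12, 4, 2, 12, 1, 3, 12, 1, 6], 1), ([2, 11, 4, 2, 11, 1, 3, 11, 4, 7, 3, 12, 4, 2, 12, 1, 3, 12, 1, 8], 1), ([2, 11, 4, 2, 11, 1, 3, 11, 4, 9, 3, 12, 4, 2, 12, 1, 3, 12,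 1, 10], 1), ([2, 11, 4, 2, 11, 1, 3, 11, 4, 11, 3, 12, 4, 2, 12, 1, 3, 12, 1, 12], 1), ([1, 4, 1, 5, 9, 2, 6, 4, 1, 9, 6, 2, 3, 2, 5, 10, 2, 3, 5, 1, 10, 6, 1, 5, 9, 2, 6, 4, 1, 9, 6, 1, 4, 1, 5, 10, 2, 3, 5, 1, 10, 6, 2, 3, 2, 2], 1), ([1, 4, 1, 5, 9, 2, 6, 4, 1, 9, 6, 2, 3, 2, 5, 10, 2, 3, 5, 1, 10, 6, 3, 5, 9, 2, 6, 4, 1, 9, 6, 1, 4, 1, 5, 10, 2, 3, 5, 1, 10, 6, 2, 3, 2, 4], 1), ([1, 4, 1, 5, 9, 2, 6, 4, 1, 9, 6, 2, 3, 2, 5, 10, 2, 3, 5, 1, 10, 5, 9, 2, 6, 4, 1, 9, 6, 1, 4, 1, 5, 10, 2, 3, 5, 1, 10, 6, 2, 3, 2, 6], 1), ([1, 4, 1, 5, 9, 2, 6, 4, 1, 9, 6, 2, 3, 2, 5, 10, 2, 3, 5, 1, 10, 6, 7, 5, 9, 2, 6, 4, 1, 9, 6, 1, 4, 1, 5, 10, 2, 3, 5, 1, 10, 6, 2, 3, 2, 8],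 1), ([1, 4, 1, 5, 9, 2, 6, 4, 1, 9, 6, 2, 3, 2, 5, 10, 2, 3, 5, 1, 10, 6, 9, 5, 9, 2, 6, 4, 1, 9, 6, 1, 4, 1, 5, 10, 2, 3, 5, 1, 10, 6, 2, 3, 2, 10], 1), ([1, 4, 1, 5, 9, 2, 6, 4, 1, 9, 6, 2, 3, 2, 5, 10, 2, 3, 5, 1, 10, 6, 11, 5, 9, 2, 6, 4, 1, 9, 6, 1, 4, 1, 5, 10, 2, 3, 5, 1, 10, 6, 2, 3, 2, 12], 1), ([1, 4, 1, 11, 2, 11, 2, 9, 1, 11, 1, 11, 2, 3, 2, 12, 2, 12, 2, 10, 1, 12, 1, 12, 1, 11, 2, 11, 2, 9, 1, 11, 1, 11, 1, 4, 1, 12, 2, 12, 2, 10, 1, 12, 1, 12, 2, 3, 2, 2], 1), ([1, 4, 1, 11, 2, 11, 2, 9, 1, 11, 1, 11, 2, 3, 2, 12, 2, 12, 2, 10, 1, 12, 1, 12, 3, 11, 2, 11, 2, 9, 1, 11, 1, 11, 1, 4, 1, 12, 2, 12, 2, 10, 1, 12, 1, 12, 2, 3, 2, 4], 1), ([1, 4, 1, 11,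 2, 11, 2, 9, 1, 11, 1, 11, 2, 3, 2, 12, 2, 12, 2, 10, 1, 12, 1, 12, 5, 11, 2, 11, 2, 9, 1, 11, 1, 11, 1, 4, 1, 12, 2, 12, 2, 10, 1, 12, 1, 12, 2, 3, 2, 6], 1), ([1, 4, 1, 11, 2, 11, 2, 9, 1, 11, 1, 11, 2, 3, 2, 12, 2, 12, 2, 10, 1, 12, 1, 12, 7, 11, 2, 11, 2, 9, 1, 11, 1, 11, 1, 4, 1, 12, 2, 12, 2, 10, 1, 12, 1, 12, 2, 3, 2, 8], 1), ([1, 4, 1, 11, 2, 11, 2, 9, 1, 11, 1, 11, 2, 3, 2, 12, 2, 12, 2, 10, 1, 12, 1, 12, 9, 11, 2, 11, 2, 9, 1, 11, 1, 11, 1, 4, 1, 12, 2, 12, 2, 10, 1, 12, 1, 12, 2, 3, 2, 10], 1), ([1, 4, 1, 11, 2, 11, 2, 9, 1, 11, 1, 11, 2, 3, 2, 12, 2, 12, 2, 10, 1, 12, 1, 11, 2, 11, 2, 9, 1, 11, 1, 11, 1, 4, 1, 12, 2, 12, 2, 10, 1, 12, 1, 12, 2, 3, 2,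 12], 1), ([5, 9, 2, 6, 4, 1, 9, 6, 11, 2, 11, 2, 9, 1, 11, 1, 11, 5, 10, 2, 3, 5, 1, 10, 6, 12, 2, 12, 2, 10, 1, 12, 1, 12, 4, 1, 3, 11, 2, 11, 2, 9, 1, 11, 1, 11, 5, 9, 2, 6, 4, 1, 9, 6, 12, 2, 12, 2, 10, 1, 12, 1, 12, 5, 10, 2, 3, 5, 1, 10, 6, 2], 1), ([5, 9, 2, 6, 4, 1, 9, 6, 11, 2, 11, 2, 9, 1, 11, 1, 11, 5, 10, 2, 3, 5, 1, 10, 6, 12, 2, 12, 2, 10, 1, 12, 1, 12, 4, 2, 3, 1, 3, 11, 2, 11, 2, 9, 1, 11, 1, 11, 5, 9, 2, 6, 4, 1, 9, 6, 12, 2, 12, 2, 10, 1, 12, 1, 12, 5, 10, 2, 3, 5, 1, 10, 6, 4], 1), ([5, 9, 2, 6, 4, 1, 9, 6, 11, 2, 11, 2, 9, 1, 11, 1, 11, 5, 10, 2, 3, 5, 1, 10, 6, 12, 2, 12, 2, 10, 1, 12, 1, 12, 4, 2, 5, 1, 3, 11, 2, 11, 2, 9, 1, 11, 1, 11, 5, 9,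 2, 6, 4, 1, 9, 6, 12, 2, 12, 2, 10, 1, 12, 1, 12, 5, 10, 2, 3, 5, 1, 10, 6, 6], 1), ([5, 9, 2, 6, 4, 1, 9, 6, 11, 2, 11, 2, 9, 1, 11, 1, 11, 5, 10, 2, 3, 5, 1, 10, 6, 12, 2, 12, 2, 10, 1, 12, 1, 12, 4, 2, 7, 1, 3, 11, 2, 11, 2, 9, 1, 11, 1, 11, 5, 9, 2, 6, 4, 1, 9, 6, 12, 2, 12, 2, 10, 1, 12, 1, 12, 5, 10, 2, 3, 5, 1, 10, 6, 8], 1), ([5, 9, 2, 6, 4, 1, 9, 6, 11, 2, 11, 2, 9, 1, 11, 1, 11, 5, 10, 2, 3, 5, 1, 10, 6, 12, 2, 12, 2, 10, 1, 12, 1, 12, 4, 2, 9, 1, 3, 11, 2, 11, 2, 9, 1, 11, 1, 11, 5, 9, 2, 6, 4, 1, 9, 6, 12, 2, 12, 2, 10, 1, 12, 1, 12, 5, 10, 2, 3, 5, 1, 10, 6, 10], 1), ([5, 9, 2, 6, 4, 1, 9, 6, 11, 2, 11, 2, 9, 1, 11, 1, 11, 5, 10, 2, 3, 5, 1, 10, 6,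 12, 2, 12, 2, 10, 1, 12, 1, 12, 4, 2, 11, 1, 3, 11, 2, 11, 2, 9, 1, 11, 1, 11, 5, 9, 2, 6, 4, 1, 9, 6, 12, 2, 12, 2, 10, 1, 12, 1, 12, 5, 10, 2, 3, 5, 1, 10, 6, 12], 1), ([5, 7, 6, 3, 11, 7, 9, 8, 12, 4, 5, 8, 6, 7, 5, 10, 6, 8, 1, 7, 5, 9, 6, 8, 5, 7, 6, 3, 11, 7, 10, 8, 12, 4, 5, 8, 6, 2], 1), ([5, 7, 6, 3, 11, 7, 9, 8, 12, 4, 5, 8, 6, 7, 5, 10, 6, 8, 3, 7, 5, 9, 6, 8, 5, 7, 6, 3, 11, 7, 10, 8, 12, 4, 5, 8, 6, 4], 1), ([5, 7, 6, 3, 11, 7, 9, 8, 12, 4, 5, 8, 6, 7, 5, 10, 6, 8, 5, 7, 5, 9, 6, 8, 5, 7, 6, 3, 11, 7, 10, 8, 12, 4, 5, 8, 6, 6], 1), ([5, 7, 6, 3, 11, 7, 9, 8, 12, 4, 5, 8, 6, 7, 5, 10, 6, 7, 5, 9, 6, 8, 5, 7, 6, 3, 11, 7, 10, 8, 12, 4, 5, 8, 6, 8], 1),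 ([5, 7, 6, 3, 11, 7, 9, 8, 12, 4, 5, 8, 6, 7, 5, 10, 6, 8, 9, 7, 5, 9, 6, 8, 5, 7, 6, 3, 11, 7, 10, 8, 12, 4, 5, 8, 6, 10], 1), ([5, 7, 6, 3, 11, 7, 9, 8, 12, 4, 5, 8, 6, 7, 5, 10, 6, 8, 11, 7, 5, 9, 6, 8, 5, 7, 6, 3, 11, 7, 10, 8, 12, 4, 5, 8, 6, 12], 1), ([5, 7, 6, 3, 11, 7, 6, 8, 4, 11, 9, 5, 4, 9, 7, 5, 8, 12, 4, 5, 8, 6, 10, 3, 6, 10, 12, 3, 1, 4, 11, 9, 5, 4, 9, 5, 7, 6, 3, 11, 7, 6, 8, 10, 3, 6, 10, 12, 3, 7, 5, 8, 12, 4, 5, 8, 6, 2], 1), ([5, 7, 6, 3, 11, 7, 6, 8, 4, 11, 9, 5, 4, 9, 7, 5, 8, 12, 4, 5, 8, 6, 10, 3, 6, 10, 12, 3, 11, 9, 5, 4, 9, 5, 7, 6, 3, 11, 7, 6, 8, 10, 3, 6, 10, 12, 3, 7, 5, 8, 12, 4, 5, 8, 6, 4], 1), ([5, 7, 6, 3, 11, 7, 6, 8, 4, 11,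 9, 5, 4, 9, 7, 5, 8, 12, 4, 5, 8, 6, 10, 3, 6, 10, 12, 3, 5, 4, 11, 9, 5, 4, 9, 5, 7, 6, 3, 11, 7, 6, 8, 10, 3, 6, 10, 12, 3, 7, 5, 8, 12, 4, 5, 8, 6, 6], 1), ([5, 7, 6, 3, 11, 7, 6, 8, 4, 11, 9, 5, 4, 9, 7, 5, 8, 12, 4, 5, 8, 6, 10, 3, 6, 10, 12, 3, 7, 4, 11, 9, 5, 4, 9, 5, 7, 6, 3, 11, 7, 6, 8, 10, 3, 6, 10, 12, 3, 7, 5, 8, 12, 4, 5, 8, 6, 8], 1), ([5, 7, 6, 3, 11, 7, 6, 8, 4, 11, 9, 5, 4, 9, 7, 5, 8, 12, 4, 5, 8, 6, 10, 3, 6, 10, 12, 3, 9, 4, 11, 9, 5, 4, 9, 5, 7, 6, 3, 11, 7, 6, 8, 10, 3, 6, 10, 12, 3, 7, 5, 8, 12, 4, 5, 8, 6, 10], 1), ([5, 7, 6, 3, 11, 7, 6, 8, 4, 11, 9, 5, 4, 9, 7, 5, 8, 12, 4, 5, 8, 6, 10, 3, 6, 10, 12, 3, 11, 4, 11, 9, 5, 4, 9, 5, 7, 6,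 3, 11, 7, 6, 8, 10, 3, 6, 10, 12, 3, 7, 5, 8, 12, 4, 5, 8, 6, 12], 1), ([7, 5, 9, 6, 8, 4, 11, 9, 5, 4, 9, 7, 5, 10, 6, 8, 10, 3, 6, 10, 12, 3, 10, 8, 1, 6, 1, 5, 2, 7, 9, 4, 11, 9, 5, 4, 9, 7, 5, 9, 6, 8, 10, 3, 6, 10, 12, 3, 7, 5, 10, 6, 8, 2], 1), ([7, 5, 9, 6, 8, 4, 11, 9, 5, 4, 9, 7, 5, 10, 6, 8, 10, 3, 6, 10, 12, 3, 10, 8, 1, 6, 3, 5, 2, 7, 9, 4, 11, 9, 5, 4, 9, 7, 5, 9, 6, 8, 10, 3, 6, 10, 12, 3, 7, 5, 10, 6, 8, 4], 1), ([7, 5, 9, 6, 8, 4, 11, 9, 5, 4, 9, 7, 5, 10, 6, 8, 10, 3, 6, 10, 12, 3, 10, 8, 1, 5, 2, 7, 9, 4, 11, 9, 5, 4, 9, 7, 5, 9, 6, 8, 10, 3, 6, 10, 12, 3, 7, 5, 10, 6, 8, 6], 1), ([7, 5, 9, 6, 8, 4, 11, 9, 5, 4, 9, 7, 5, 10, 6, 8, 10, 3, 6, 10,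 12, 3, 10, 8, 1, 6, 7, 5, 2, 7, 9, 4, 11, 9, 5, 4, 9, 7, 5, 9, 6, 8, 10, 3, 6, 10, 12, 3, 7, 5, 10, 6, 8, 8], 1), ([7, 5, 9, 6, 8, 4, 11, 9, 5, 4, 9, 7, 5, 10, 6, 8, 10, 3, 6, 10, 12, 3, 10, 8, 1, 6, 9, 5, 2, 7, 9, 4, 11, 9, 5, 4, 9, 7, 5, 9, 6, 8, 10, 3, 6, 10, 12, 3, 7, 5, 10, 6, 8, 10], 1), ([7, 5, 9, 6, 8, 4, 11, 9, 5, 4, 9, 7, 5, 10, 6, 8, 10, 3, 6, 10, 12, 3, 10, 8, 1, 6, 11, 5, 2, 7, 9, 4, 11, 9, 5, 4, 9, 7, 5, 9, 6, 8, 10, 3, 6, 10, 12, 3, 7, 5, 10, 6, 8, 12], 1), ([8, 9, 5, 2, 3, 11, 6, 8, 8, 9, 5, 2, 3, 11, 6, 8, 10, 8, 1, 6, 1, 5, 2, 7, 9, 7, 5, 12, 4, 1, 6, 10, 7, 7, 5, 12, 4, 1, 6, 10, 7, 2], 1), ([8, 9, 5, 2, 3, 11, 6, 8, 8, 9, 5, 2, 3, 11, 6, 8, 10,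 8, 1, 6, 3, 5, 2, 7, 9, 7, 5, 12, 4, 1, 6, 10, 7, 7, 5, 12, 4, 1, 6, 10, 7, 4], 1), ([8, 9, 5, 2, 3, 11, 6, 8, 8, 9, 5, 2, 3, 11, 6, 8, 10, 8, 1, 5, 2, 7, 9, 7, 5, 12, 4, 1, 6, 10, 7, 7, 5, 12, 4, 1, 6, 10, 7, 6], 1), ([8, 9, 5, 2, 3, 11, 6, 8, 8, 9, 5, 2, 3, 11, 6, 8, 10, 8, 1, 6, 7, 5, 2, 7, 9, 7, 5, 12, 4, 1, 6, 10, 7, 7, 5, 12, 4, 1, 6, 10], 1), ([8, 9, 5, 2, 3, 11, 6, 8, 8, 9, 5, 2, 3, 11, 6, 8, 10, 8, 1, 6, 9, 5, 2, 7, 9, 7, 5, 12, 4, 1, 6, 10, 7, 7, 5, 12, 4, 1, 6, 10, 7, 10], 1), ([8, 9, 5, 2, 3, 11, 6, 8, 8, 9, 5, 2, 3, 11, 6, 8, 10, 8, 1, 6, 11, 5, 2, 7, 9, 7, 5, 12, 4, 1, 6, 10, 7, 7, 5, 12, 4, 1, 6, 10, 7, 12], 1), ([1, 6, 9, 8, 5, 2, 7, 9, 7, 5, 8,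 12, 4, 5, 8, 6, 7, 5, 12, 4, 1, 6, 10, 7, 1, 8, 9, 5, 2, 3, 11, 6, 8, 5, 7, 6, 3, 11, 7, 6, 8, 10, 8, 1, 6, 7, 10, 5, 2, 2], 1), ([1, 6, 9, 8, 5, 2, 7, 9, 7, 5, 8, 12, 4, 5, 8, 6, 7, 5, 12, 4, 1, 6, 10, 7, 3, 8, 9, 5, 2, 3, 11, 6, 8, 5, 7, 6, 3, 11, 7, 6, 8, 10, 8, 1, 6, 7, 10, 5, 2, 4], 1), ([1, 6, 9, 8, 5, 2, 7, 9, 7, 5, 8, 12, 4, 5, 8, 6, 7, 5, 12, 4, 1, 6, 10, 7, 5, 8, 9, 5, 2, 3, 11, 6, 8, 5, 7, 6, 3, 11, 7, 6, 8, 10, 8, 1, 6, 7, 10, 5, 2, 6], 1), ([1, 6, 9, 8, 5, 2, 7, 9, 7, 5, 8, 12, 4, 5, 8, 6, 7, 5, 12, 4, 1, 6, 10, 7, 9, 5, 2, 3, 11, 6, 8, 5, 7, 6, 3, 11, 7, 6, 8, 10, 8, 1, 6, 7, 10, 5, 2, 8], 1), ([1, 6, 9, 8, 5, 2, 7, 9, 7, 5, 8, 12, 4, 5, 8, 6, 7, 5,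 12, 4, 1, 6, 10, 7, 9, 8, 9, 5, 2, 3, 11, 6, 8, 5, 7, 6, 3, 11, 7, 6, 8, 10, 8, 1, 6, 7, 10, 5, 2, 10], 1), ([1, 6, 9, 8, 5, 2, 7, 9, 7, 5, 8, 12, 4, 5, 8, 6, 7, 5, 12, 4, 1, 6, 10, 7, 11, 8, 9, 5, 2, 3, 11, 6, 8, 5, 7, 6, 3, 11, 7, 6, 8, 10, 8, 1, 6, 7, 10, 5, 2, 12], 1)]

end Cfsg.Agent.MLin.McL
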