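import Cfsg.Agent.MLin.Main

/-! Tables, matrices and words (generated data, owner: helper7). -/

set_option autoImplicit false
set_option maxRecDepth 1000000

namespace Cfsg.Agent.MLin.Sp6

open Cfsg.Agent.PermTab Cfsg.Agent.CosetEnum Cfsg.Agent.MLin

/-- addition table -/
def At : ℕ := 0x6

/-- multiplication table -/
def Ml : ℕ := 0x8

/-- codes of the points -/
def cd : ℕ := 0x3ffbdf3beb9e37db5d33cb1c2fbadb2baa9a279a59238a181f79d71b69961759551349140f38d30b289207185103081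

/-- identity table -/
def idt : ℕ := 0x3ef7cefae78df6d74cf2c70beeb6caeaa689e69648e28607de75c6da6585d65544d24503ce34c2ca2481c61440c2040

/-- tables -/
def gt : ℕ → ℕ
  | 0 => 0x3ddbbd39cb7c3ed7ccfac78bed9ab9298a782e96c8ea8687dd59b51949741e55c4da4583cd18b10908700e14c0ca048
  | 1 => 0x3dcfbd79bf7c76f34fb2e30ea4ba6b20aa2a2b96d8e78697dd4db5593d745671479261068438630028220b14d0c7049
  | 2 => 0x3d964f39860e36babcf2aa7bedd74b29c70a26fbb8e2eb77dd14471904061638b4d22873cd55430945020679b0c2697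
  | 3 => 0x3d7e2f398e6e36a29cf2b2dbf0babc74aa7d77964ebb860f8079b04469714755428b45038d3d23094d62066190c271d
  | 4 => 0x3d0c6f00eb707630dcc7c70294bab5693d2a1b9647a26197dd8e6720697856b2d4e7450ab438bd49bf223b144f82e39
  | 5 => 0xfbb0790c6e07d742b230dbed3d2b14aa75666198db86079d7e2724697956a294eb450bb038bc49cf6237144e82f3d
  | 6 => 0x3cefef78dfae74cf6d70bf2c6eb6caeaa689e69648e28607dc6de7585da6544d65503d244e34c2ca2481c61440c2040
  | _ => idt

/-- tables -/
def gi : ℕ → ℕ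
  | 0 => 0x36fb4f32eb0e3dd7bcf9c77be6ba4b22aa0a2d96b8e98677d679471269061d55b4d94573c638430228020d14b0c9047
  | 1 => 0x33fb5f2feb1e36ef4f72df0e6d92b9a98278ac96e8e886a7d379570f6916166d47525d064d10b18900708c14e0c804a
  | 2 => 0x25fbb921eb7836b6ccf2a68bf5babd31aa7c26f7c8e2e787c579b10169701634c4d22483d538b51128740675c0c2658
  | 3 => 0x1ffbb8a3eb79b69eacf2aeebedc31b29d35a38964e7c860f5d00171910560855424c45034f38b4932875865da0c26de
  | 4 => 0x3fbb1b9001e362cecc8c7026d515b0faa749c9647625da7e379b999821616aee4e8450a4dd3532f287cbc144f42dfa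
  | 5 => 0x3d001f03eb7188d742722cebcfbab4a9515a265da8dc86075f79b8999256169ea4ec450b4dc31333287db8144e42efe
  | 6 => 0x3cefef78dfae74cf6d70bf2c6eb6caeaa689e69648e28607dc6de7585da6544d65503d244e34c2ca2481c61440c2040
  | _ => idt

/-- matrices of the generators -/
def Mt : ℕ → ℕ
  | 0 => 0x810044089
  | 1 => 0x8106444d8
  | 2 => 0x8132c408a
  | 3 => 0x823ef7c7a
  | 4 => 0xdc77c455e
  | 5 => 0x5e7ff3d7e
  | 6 => 0x810204481
  | _ => 0

/-- frame -/
def Bm : ℕ := 0x76cbc84a1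

/-- frame -/
def Bi : ℕ := 0xab113eceb

/-- frame -/
def Id : ℕ := 0x810204081

/-- frame -/
def tv : ℕ := 0x3f

/-- frame -/
def fr : List ℕ := [40, 9, 55, 59, 33, 24, 27]

/-- transversal -/
def ts : List (List ℕ) := [[], [5, 13, 5], [3, 1], [11, 9], [8, 13, 5], [7, 5], [12, 13, 9], [2], [1], [3], [4], [7, 13, 5, 1], [8, 13, 5, 1], [11, 13, 9, 1], [12, 13, 9, 1], [13, 5, 3], [5, 1], [5, 3], [13, 5, 1], [7, 3], [13, 7, 1], [13, 7, 3], [7, 1], [5], [6], [13, 5], [13, 6], [13, 7], [13, 8], [7], [8], [11, 7], [10, 13, 5], [9, 5], [12, 13, 7], [9, 7], [12, 13, 5], [11, 5], [10, 13, 7], [9, 13, 5, 1], [10, 13, 5, 1], [11, 13, 7, 1], [12, 13, 7, 1], [11, 13, 5, 1], [12, 13, 5, 1], [9, 13, 7, 1], [10, 13, 7, 1], [9, 3], [13, 9, 1], [13, 9, 3], [9, 1], [11, 3], [13, 11, 1], [13, 11, 3], [11, 1], [13, 9], [13, 10], [9], [10], [13, 11], [13, 12], [11], [12]]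

/-- further transversals -/
def L : List (ℕ × List (List ℕ)) := [(15, [[3, 6, 3], [1, 6, 13, 1], [8, 10, 13, 10, 2, 7], [1, 12, 5, 10, 1], [3, 8, 13, 3], [1, 8, 1], [], [1, 13, 4, 1], [13], [1, 4, 1], [5, 8, 5, 13], [1, 8, 5, 4, 1], [5, 8, 5], [10, 12, 13, 11, 9], [8, 14, 10, 13, 2, 7], [1, 12, 5, 8, 1], [3, 10, 13, 3], [1, 10, 1], [8, 14, 12, 13, 2, 7], [1, 10, 5, 8, 1], [3, 12, 13, 3], [1, 12, 1], [5, 10, 5, 13], [1, 10, 5, 4, 1], [5, 10, 5], [8, 12, 13, 11, 7], [5, 12, 5, 13], [1, 12, 5, 4, 1], [5, 12, 5], [8, 10, 13, 9, 7]]), (1, [[], [2, 7, 13, 4, 7, 2], [14, 2, 7, 13, 6, 1], [2, 4, 7, 5, 3, 1], [4, 5, 13, 6, 3], [1, 6, 1], [3, 8, 3], [2, 7, 13, 8, 1], [14, 2, 9, 13, 6, 1], [2, 4, 9, 5, 3, 1], [14, 2, 11, 13, 6, 1], [2, 4, 11, 5, 3, 1], [3, 10, 3], [2, 9, 13, 10, 1], [3, 12, 3], [2, 11, 13, 12, 1]]), (3, [[], [6, 12, 13, 11, 5, 7, 10, 7], [7, 10, 7], [6, 12, 13, 11, 5], [7, 12, 7], [6, 10,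 13, 9, 5]]), (7, [[], [9, 12, 9], [5, 14, 7, 13, 5], [6, 8, 13, 7, 5]]), (31, [[], [14, 10, 14, 11, 10, 13, 11]])]

/-- words of the stabiliser of `0` -/
def ws : List (List ℕ) := [[13], [1, 4, 1], [1, 8, 1], [1, 10, 1], [1, 12, 1]]

theorem hid : idt = tid 6 63 := by decide +kernel

theorem gens_ok : gensB 6 63 idt 7 gt gi = true := by decide +kernel

theorem pts_ok : ptsB 1 2 6 cd 63 = true := by decide +kernel

theorem frame_ok : frameB 1 At Ml 2 6 cd fr 27 Bm Bi Id tv = true := by decide +kernel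

theorem mv_ok : mvB 6 63 (tfm gt gi idt 7) ws = true := by decide +kernel

theorem chain_ok : chB 6 63 (tfm gt gi idt 7) 14 ((0, ts) :: L) [] = true := by decide +kernel

theorem card_ok : chCard ((0, ts) :: L) = 1451520 ∧ ts.length = 63 := by decide +kernel

theorem act0 : actB 1 At Ml 2 6 (Mt 0) 6 (gt 0) cd 63 = true := by decide +kernel

theorem act1 : actB 1 At Ml 2 6 (Mt 1) 6 (gt 1) cd 63 = true := by decide +kernel

theorem act2 : actB 1 At Ml 2 6 (Mt 2) 6 (gt 2) cd 63 = true := by decide +kernel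

theorem act3 : actB 1 At Ml 2 6 (Mt 3) 6 (gt 3) cd 63 = true := by decide +kernel

theorem act4 : actB 1 At Ml 2 6 (Mt 4) 6 (gt 4) cd 63 = true := by decide +kernel

theorem act5 : actB 1 At Ml 2 6 (Mt 5) 6 (gt 5) cd 63 = true := by decide +kernel

theorem act6 : actB 1 At Ml 2 6 (Mt 6) 6 (gt 6) cd 63 = true := by decide +kernel

theorem act_ok : ∀ i < 7, actB 1 At Ml 2 6 (Mt i) 6 (gt i) cd 63 = true := by
  intro i hi
  match i, hi with
  | 0, _ => exact act0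
  | 1, _ => exact act1
  | 2, _ => exact act2
  | 3, _ => exact act3
  | 4, _ => exact act4
  | 5, _ => exact act5
  | 6, _ => exact act6
  | m + 7, h => exact absurd h (by omega)

theorem fr_ok : (∀ x ∈ fr, x < 63) ∧ 27 ∈ fr ∧ 6 ≤ fr.length := by decide +kernel

end Cfsg.Agent.MLin.Sp6
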